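import Cfsg.Agent.JankoFour.TenGroup.LinGroup

/-!
The special linear group of dimension five over two elements is the group of linear maps preserving the class.
-/

set_option autoImplicit false
set_option maxRecDepth 100000
set_option maxHeartbeats 1000000
set_option linter.style.haveILetI false

namespace Cfsg.Lib.JankoFour.Ten

open TenData (toA toW decP)
open Cfsg.Lib.JankoFour (mv mv_xor mv_zero mv_lt lin_ext)
open Matrix

/-- The code of a vector. -/
def enc (v : Fin 5 → ZMod 2) : ℕ :=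
  (v 0).val ^^^ 2 * (v 1).val ^^^ 4 * (v 2).val ^^^ 8 * (v 3).val ^^^ 16 * (v 4).val

theorem enc_lt (v : Fin 5 → ZMod 2) : enc v < 32 := by
  have h : ∀ a b c d e : ZMod 2, a.val ^^^ 2 * b.val ^^^ 4 * c.val ^^^ 8 * d.val ^^^ 16 * e.val < 32 := by decide +kernel
  exact h _ _ _ _ _

theorem enc_add (v w : Fin 5 → ZMod 2) : enc (v + w) = enc v ^^^ enc w := by
  have h : ∀ k : ℕ, k = 1 ∨ k = 2 ∨ k = 4 ∨ k = 8 ∨ k = 16 → ∀ a b : ZMod 2,
      k * (a + b).val = k * a.val ^^^ k * b.val := by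
    intro k hk
    rcases hk with rfl | rfl | rfl | rfl | rfl <;> decide +kernel
  have h1 := h 1 (by norm_num) (v 0) (w 0)
  simp only [one_mul] at h1
  simp only [enc, Pi.add_apply, h1, h 2 (by norm_num), h 4 (by norm_num), h 8 (by norm_num), h 16 (by norm_num)]
  simp [Nat.xor_assoc, Nat.xor_left_comm]

theorem enc_zero : enc 0 = 0 := by simp [enc]

theorem enc_inj {v w : Fin 5 → ZMod 2} (h : enc v = enc w) : v = w := by
  have key : ∀ a b c d e : ZMod 2, a.val ^^^ 2 * b.val ^^^ 4 * c.val ^^^ 8 * d.val ^^^ 16 * e.val = 0 →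
      a = 0 ∧ b = 0 ∧ c = 0 ∧ d = 0 ∧ e = 0 := by decide +kernel
  have h0 : enc (v + w) = 0 := by rw [enc_add, h, Nat.xor_self]
  obtain ⟨h1, h2, h3, h4, h5⟩ := key _ _ _ _ _ h0
  funext i
  have h2' : ∀ a b : ZMod 2, a + b = 0 → a = b := by decide
  exact h2' _ _ (by fin_cases i <;> assumption)

/-- The columns of a matrix. -/
def colsOf (g : Matrix (Fin 5) (Fin 5) (ZMod 2)) : List ℕ := List.ofFn fun j => enc fun i => g i j

theorem colsOf_getD (g : Matrix (Fin 5) (Fin 5) (ZMod 2)) (j : Fin 5) :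
    (colsOf g).getD j.1 0 = enc fun i => g i j := by
  rw [List.getD_eq_getElem _ _ (by simp [colsOf])]
  simp only [colsOf, List.getElem_ofFn]

theorem colsOf_lt (g : Matrix (Fin 5) (Fin 5) (ZMod 2)) : ∀ c ∈ colsOf g, c < 32 := by
  intro c hc
  obtain ⟨j, rfl⟩ := List.mem_ofFn.mp hc
  exact enc_lt _

theorem mv_cols (g : Matrix (Fin 5) (Fin 5) (ZMod 2)) (v : Fin 5 → ZMod 2) : mv (colsOf g) (enc v) = enc (g *ᵥ v) := by
  have hone : ∀ j : Fin 5, ∀ a : ZMod 2, mv (colsOf g) (enc (Pi.single j a)) = enc (g *ᵥ Pi.single j a) := by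
    intro j a
    rcases (show a = 0 ∨ a = 1 from by revert a; decide) with rfl | rfl
    · simp [enc_zero, mv_zero]
    · have hp : ∀ j : Fin 5, enc (Pi.single j 1) = 2 ^ j.1 := by decide +kernel
      rw [hp, Cfsg.Lib.JankoFour.mv_two_pow, colsOf_getD, Matrix.mulVec_single_one]
      rfl
  have hgen : ∀ s : Finset (Fin 5), mv (colsOf g) (enc (∑ j ∈ s, Pi.single j (v j))) =
      enc (g *ᵥ ∑ j ∈ s, Pi.single j (v j)) := by
    intro s
    induction s using Finset.induction_on with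
    | empty => simp [enc_zero, mv_zero]
    | insert j s hj ih => rw [Finset.sum_insert hj, enc_add, mv_xor, ih, hone, Matrix.mulVec_add, enc_add]
  have := hgen Finset.univ
  rwa [Finset.univ_sum_single] at this

theorem wedge_facts {u v : ℕ} (hu : u < 32) (hv : v < 32) : wedge u v < 1024 ∧ wedge u v = wedge v u ∧
    (u = v → wedge u v = 0) ∧ (wedge u v = 0 ∨ inZ (mv toA (wedge u v)) = true) := by
  have h := wedge_lt
  simp only [List.all_eq_true, List.mem_range, Bool.and_eq_true, Bool.or_eq_true, decide_eq_true_eq, beq_iff_eq] at h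
  obtain ⟨⟨⟨h1, h2⟩, h3⟩, h4⟩ := h u hu v hv
  exact ⟨h1, h2, fun e => h3.resolve_left (fun hne => hne e), h4⟩

theorem xor32 {a b : ℕ} (ha : a < 32) (hb : b < 32) : a ^^^ b < 32 := Nat.xor_lt_two_pow (n := 5) ha hb

theorem wedge_zero_left {v : ℕ} : wedge 0 v = 0 := by
  simp [wedge]

theorem wedge_add_left {u : ℕ} (hu : u < 32) : ∀ u' < 32, ∀ v < 32, wedge (u ^^^ u') v = wedge u v ^^^ wedge u' v := by
  have hb := wedge_bilin
  simp only [List.all_eq_true, List.mem_range, beq_iff_eq] at hb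
  intro u' hu' v hv
  -- induction over the bits of the first argument
  have hgen : ∀ n, n ≤ 5 → ∀ u < 2 ^ n, ∀ u' < 32, wedge (u ^^^ u') v = wedge u v ^^^ wedge u' v := by
    intro n
    induction n with
    | zero =>
      intro _ u hu u' _
      rw [show u = 0 by simpa using hu, wedge_zero_left]
      simp
    | succ n ih =>
      intro hn u hu u' hu'
      by_cases hun : u < 2 ^ n
      · exact ih (by omega) u hun u' hu'
      · have h2 : u ^^^ 2 ^ n < 2 ^ n := by
          refine Nat.lt_pow_two_of_testBit _ fun i hi => ?_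
          rw [Nat.testBit_xor, Nat.testBit_two_pow]
          rcases eq_or_lt_of_le hi with rfl | hi'
          · have : u.testBit n = true := by
              rw [Nat.testBit_eq_decide_div_mod_eq, decide_eq_true_eq]
              have h1 : u / 2 ^ n = 1 := Nat.div_eq_of_lt_le (by omega) (by rw [pow_succ] at hu; omega)
              rw [h1]
            simp [this]
          · rw [Nat.testBit_lt_two_pow (lt_of_lt_of_le hu (Nat.pow_le_pow_right two_pos hi'))]
            simp [show n ≠ i by omega]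
        set w := u ^^^ 2 ^ n with hw
        have hu2 : u = 2 ^ n ^^^ w := by rw [hw, Nat.xor_comm u, ← Nat.xor_assoc, Nat.xor_self, Nat.zero_xor]
        have hp : 2 ^ n < 32 := Nat.pow_lt_pow_right (a := 2) (n := 5) one_lt_two (by omega)
        have hw32 : w < 32 := lt_trans h2 hp
        rw [hu2, hb w hw32 n (by omega) v hv, Nat.xor_assoc, hb _ (xor32 hw32 hu') n (by omega) v hv,
          ih (by omega) w h2 u' hu', Nat.xor_assoc]
  exact hgen 5 le_rfl u (by simpa using hu) u' hu'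

theorem wedge_add_right {u v v' : ℕ} (hu : u < 32) (hv : v < 32) (hv' : v' < 32) :
    wedge u (v ^^^ v') = wedge u v ^^^ wedge u v' := by
  rw [(wedge_facts hu (xor32 hv hv')).2.1, wedge_add_left hv v' hv' u hu, (wedge_facts hv hu).2.1,
    (wedge_facts hv' hu).2.1]

/-- The action on bivectors of a matrix given by columns. -/
def bivM (cols : List ℕ) : List ℕ := wPairs.map fun q => wedge (cols.getD q.1 0) (cols.getD q.2 0)

theorem getD_lt {cols : List ℕ} (h : ∀ c ∈ cols, c < 32) (i : ℕ) : cols.getD i 0 < 32 := by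
  by_cases hi : i < cols.length
  · rw [List.getD_eq_getElem _ _ hi]; exact h _ (List.getElem_mem hi)
  · rw [List.getD_eq_default _ _ (not_lt.mp hi)]; norm_num

theorem bivM_spec {cols : List ℕ} (h : ∀ c ∈ cols, c < 32) :
    ∀ u < 32, ∀ v < 32, mv (bivM cols) (wedge u v) = wedge (mv cols u) (mv cols v) := by
  have hl : ∀ x, mv cols x < 32 := fun x => mv_lt (n := 5) h x
  have hbase : ∀ i < 5, ∀ j < 5, mv (bivM cols) (wedge (2 ^ i) (2 ^ j)) = wedge (cols.getD i 0) (cols.getD j 0) := by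
    have hlt : ∀ i < 5, ∀ j < 5, i < j → ∃ k < 10, wPairs.getD k (0, 0) = (i, j) ∧ wedge (2 ^ i) (2 ^ j) = 2 ^ k := by
      decide +kernel
    have hij : ∀ i < 5, ∀ j < 5, i < j →
        mv (bivM cols) (wedge (2 ^ i) (2 ^ j)) = wedge (cols.getD i 0) (cols.getD j 0) := by
      intro i hi j hj h
      obtain ⟨k, hk, e1, e2⟩ := hlt i hi j hj h
      have hl10 : wPairs.length = 10 := rfl
      rw [e2, Cfsg.Lib.JankoFour.mv_two_pow, bivM, List.getD_eq_getElem _ _ (by rw [List.length_map]; omega),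
        List.getElem_map, ← List.getD_eq_getElem _ (0, 0) (by omega), e1]
    intro i hi j hj
    have hp : ∀ i < 5, 2 ^ i < 32 := by decide
    rcases lt_trichotomy i j with hl' | rfl | hl'
    · exact hij i hi j hj hl'
    · rw [(wedge_facts (hp i hi) (hp i hi)).2.2.1 rfl, (wedge_facts (getD_lt h i) (getD_lt h i)).2.2.1 rfl, mv_zero]
    · rw [(wedge_facts (hp i hi) (hp j hj)).2.1, hij j hj i hi hl', (wedge_facts (getD_lt h i) (getD_lt h j)).2.1]
  intro u hu v hv
  have hx : ∀ a b, a < 32 → b < 32 → a % 32 ^^^ b % 32 = (a ^^^ b) % 32 := fun a b ha hb => by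
    rw [Nat.mod_eq_of_lt ha, Nat.mod_eq_of_lt hb, Nat.mod_eq_of_lt (xor32 ha hb)]
  have hmod : ∀ a b : ℕ, (a ^^^ b) % 32 = a % 32 ^^^ b % 32 := fun a b => by
    rw [show (32 : ℕ) = 2 ^ 5 by norm_num]
    exact Nat.eq_of_testBit_eq fun i => by
      simp only [Nat.testBit_mod_two_pow, Nat.testBit_xor]
      by_cases h : i < 5 <;> simp [h]
  have hm32 : ∀ a : ℕ, a % 32 < 32 := fun a => Nat.mod_lt _ (by norm_num)
  have := lin_ext (f := fun u => mv (bivM cols) (wedge (u % 32) v)) (g := fun u => wedge (mv cols (u % 32)) (mv cols v))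
    (· ^^^ ·) 5
    (fun a b => by simp only [hmod, wedge_add_left (hm32 a) _ (hm32 b) v hv, mv_xor])
    (fun a b => by simp only [hmod, mv_xor, wedge_add_left (hl _) _ (hl _) _ (hl v)])
    (by simp [wedge_zero_left, mv_zero]) (fun i hi => ?_) u hu
  · simpa [Nat.mod_eq_of_lt hu] using this
  · have hp : 2 ^ i < 32 := Nat.pow_lt_pow_right (a := 2) (n := 5) one_lt_two hi
    simp only [Nat.mod_eq_of_lt hp]
    have h2 := lin_ext (f := fun v => mv (bivM cols) (wedge (2 ^ i) (v % 32)))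
      (g := fun v => wedge (mv cols (2 ^ i)) (mv cols (v % 32))) (· ^^^ ·) 5
      (fun a b => by simp only [hmod, wedge_add_right hp (hm32 a) (hm32 b), mv_xor])
      (fun a b => by simp only [hmod, mv_xor, wedge_add_right (hl _) (hl _) (hl _)])
      (by
        simp only [Nat.zero_mod, mv_zero]
        rw [(wedge_facts hp (by norm_num)).2.1, wedge_zero_left, (wedge_facts (hl _) (by norm_num)).2.1,
          wedge_zero_left, mv_zero])
      (fun j hj => by
        simp only [Nat.mod_eq_of_lt (Nat.pow_lt_pow_right (a := 2) (n := 5) one_lt_two hj),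
          Cfsg.Lib.JankoFour.mv_two_pow]
        exact hbase i hi j hj) v hv
    simpa [Nat.mod_eq_of_lt hv] using h2

theorem bivM_lt {cols : List ℕ} (h : ∀ c ∈ cols, c < 32) : ∀ m ∈ bivM cols, m < 1024 := by
  intro m hm
  obtain ⟨q, -, rfl⟩ := List.mem_map.mp hm
  exact (wedge_facts (getD_lt h _) (getD_lt h _)).1

theorem toA_toW : ∀ x < 1024, mv toA (mv toW x) = x ∧ mv toW (mv toA x) = x := by
  obtain ⟨-, -, -, -, h⟩ := coord_inv
  simp only [List.all_eq_true, List.mem_range, Bool.and_eq_true, beq_iff_eq] at h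
  intro x hx
  exact ⟨lin_ext (f := fun x => mv toA (mv toW x)) (g := id) (· ^^^ ·) 10 (fun a b => by simp only [mv_xor])
      (fun a b => rfl) (by simp [mv_zero]) (fun j hj => (h j hj).1.1) x hx,
    lin_ext (f := fun x => mv toW (mv toA x)) (g := id) (· ^^^ ·) 10 (fun a b => by simp only [mv_xor])
      (fun a b => rfl) (by simp [mv_zero]) (fun j hj => (h j hj).1.2) x hx⟩

theorem toA_lt (x : ℕ) : mv toA x < 1024 := by
  obtain ⟨-, -, h, -⟩ := coord_inv
  exact mv_lt (n := 10) (fun m hm => of_decide_eq_true (List.all_eq_true.mp h m hm)) x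

theorem toW_lt (x : ℕ) : mv toW x < 1024 := by
  obtain ⟨-, -, -, h, -⟩ := coord_inv
  exact mv_lt (n := 10) (fun m hm => of_decide_eq_true (List.all_eq_true.mp h m hm)) x

theorem biv_ext {M N : List ℕ}
    (h : ∀ u < 32, ∀ v < 32, mv M (wedge u v) = mv N (wedge u v)) : ∀ x < 1024, mv M x = mv N x := by
  obtain ⟨-, -, -, -, h'⟩ := coord_inv
  simp only [List.all_eq_true, List.mem_range, Bool.and_eq_true, beq_iff_eq] at h'
  intro x hx
  refine lin_ext (f := mv M) (g := mv N) (· ^^^ ·) 10 (mv_xor M) (mv_xor N) (by rw [mv_zero, mv_zero]) (fun j hj => ?_)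
    x hx
  have hp : ∀ j < 10, (wPairs.getD j (0, 0)).1 < 5 ∧ (wPairs.getD j (0, 0)).2 < 5 := by decide +kernel
  rw [← (h' j hj).2]
  exact h _ (Nat.pow_lt_pow_right (a := 2) (n := 5) one_lt_two (hp j hj).1) _
    (Nat.pow_lt_pow_right (a := 2) (n := 5) one_lt_two (hp j hj).2)

/-- The map of coordinates of a matrix. -/
def slMap (g : Matrix (Fin 5) (Fin 5) (ZMod 2)) (x : Fin 1024) : Fin 1024 :=
  ⟨mv toA (mv (bivM (colsOf g)) (mv toW x.1)), toA_lt _⟩

theorem cols_one : mv (colsOf 1) = fun u => mv [1, 2, 4, 8, 16] u := by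
  have h : colsOf 1 = [1, 2, 4, 8, 16] := by decide +kernel
  rw [h]

theorem dec_enc {u : ℕ} (hu : u < 32) : ∃ v : Fin 5 → ZMod 2, enc v = u :=
  ⟨fun i => if u.testBit i.1 then 1 else 0, by
    have h : ∀ u < 32, enc (fun i : Fin 5 => if u.testBit i.1 then (1 : ZMod 2) else 0) = u := by decide +kernel
    exact h u hu⟩

theorem slMap_mul (g h : Matrix (Fin 5) (Fin 5) (ZMod 2)) (x : Fin 1024) : slMap (g * h) x = slMap g (slMap h x) := by
  refine Fin.ext ?_
  show mv toA (mv (bivM (colsOf (g * h))) (mv toW x.1)) =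
    mv toA (mv (bivM (colsOf g)) (mv toW (mv toA (mv (bivM (colsOf h)) (mv toW x.1)))))
  rw [(toA_toW _ (mv_lt (n := 10) (bivM_lt (colsOf_lt h)) _)).2]
  congr 1
  rw [← Cfsg.Lib.JankoFour.mv_mm (bivM (colsOf g))]
  refine biv_ext (fun u hu v hv => ?_) _ (toW_lt _)
  have hl : ∀ x, mv (colsOf h) x < 32 := fun x => mv_lt (n := 5) (colsOf_lt h) x
  rw [Cfsg.Lib.JankoFour.mv_mm, bivM_spec (colsOf_lt h) u hu v hv, bivM_spec (colsOf_lt g) _ (hl u) _ (hl v),
    bivM_spec (colsOf_lt _) u hu v hv]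
  obtain ⟨u', rfl⟩ := dec_enc hu
  obtain ⟨v', rfl⟩ := dec_enc hv
  rw [mv_cols, mv_cols, mv_cols, mv_cols, mv_cols, mv_cols, Matrix.mulVec_mulVec, Matrix.mulVec_mulVec]

theorem slMap_one (x : Fin 1024) : slMap 1 x = x := by
  refine Fin.ext ?_
  show mv toA (mv (bivM (colsOf 1)) (mv toW x.1)) = x.1
  have h : ∀ y < 1024, mv (bivM (colsOf (1 : Matrix (Fin 5) (Fin 5) (ZMod 2)))) y = mv [1, 2, 4, 8, 16, 32, 64, 128, 256, 512] y := by
    intro y hy
    rw [show bivM (colsOf (1 : Matrix (Fin 5) (Fin 5) (ZMod 2))) = [1, 2, 4, 8, 16, 32, 64, 128, 256, 512] by decide +kernel]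
  have hid : ∀ y < 1024, mv [1, 2, 4, 8, 16, 32, 64, 128, 256, 512] y = y := fun y hy =>
    lin_ext (f := mv _) (g := id) (· ^^^ ·) 10 (mv_xor _) (fun a b => rfl) (mv_zero _) (by decide +kernel) y hy
  rw [h _ (toW_lt _), hid _ (toW_lt _), (toA_toW _ x.2).1]

/-- The permutation of coordinates of a matrix of determinant one. -/
def slPerm : Matrix.SpecialLinearGroup (Fin 5) (ZMod 2) →* Equiv.Perm (Fin 1024) where
  toFun g :=
    { toFun := slMap g.1
      invFun := slMap (g⁻¹).1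
      left_inv := fun x => by
        rw [← slMap_mul, ← Matrix.SpecialLinearGroup.coe_mul, inv_mul_cancel, Matrix.SpecialLinearGroup.coe_one, slMap_one]
      right_inv := fun x => by
        rw [← slMap_mul, ← Matrix.SpecialLinearGroup.coe_mul, mul_inv_cancel, Matrix.SpecialLinearGroup.coe_one, slMap_one] }
  map_one' := Equiv.ext fun x => slMap_one x
  map_mul' g h := Equiv.ext fun x => slMap_mul g.1 h.1 x

theorem slPerm_mem (g : Matrix.SpecialLinearGroup (Fin 5) (ZMod 2)) : slPerm g ∈ XG := by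
  have hlin : ∀ (g : Matrix.SpecialLinearGroup (Fin 5) (ZMod 2)) a b, slPerm g (fx a b) = fx (slPerm g a) (slPerm g b) := by
    intro g a b
    refine Fin.ext ?_
    show mv toA (mv (bivM (colsOf g.1)) (mv toW (a.1 ^^^ b.1))) = _
    rw [mv_xor, mv_xor, mv_xor]
    rfl
  have hz : ∀ (g : Matrix.SpecialLinearGroup (Fin 5) (ZMod 2)) (a : Fin 1024), inZ a.1 = true → inZ (slPerm g a).1 = true := by
    intro g a ha
    have hd := dec_all
    simp only [List.all_eq_true, List.any_eq_true, Bool.and_eq_true, decide_eq_true_eq, beq_iff_eq] at hd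
    obtain ⟨⟨u, v⟩, -, ⟨hu, hv⟩, e⟩ := hd a.1 (List.mem_filter.mpr ⟨List.mem_range.mpr a.2, ha⟩)
    show inZ (mv toA (mv (bivM (colsOf g.1)) (mv toW a.1))) = true
    have e' : mv toA (mv (bivM (colsOf g.1)) (mv toW a.1)) =
        mv toA (wedge (mv (colsOf g.1) u) (mv (colsOf g.1) v)) := by
      rw [← e, (toA_toW _ (wedge_facts hu hv).1).2, bivM_spec (colsOf_lt _) u hu v hv]
    rw [e']
    refine (wedge_facts (mv_lt (n := 5) (colsOf_lt _) u) (mv_lt (n := 5) (colsOf_lt _) v)).2.2.2.resolve_left fun h0 => ?_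
    have h1 : slPerm g a = slPerm g 0 := by
      refine Fin.ext ?_
      show mv toA (mv (bivM (colsOf g.1)) (mv toW a.1)) = mv toA (mv (bivM (colsOf g.1)) (mv toW 0))
      rw [e', h0]
      simp only [mv_zero]
    rw [(slPerm g).injective h1] at ha
    revert ha
    decide +kernel
  refine ⟨hlin g, fun a => ?_⟩
  rcases Bool.eq_false_or_eq_true (inZ a.1) with h | h
  · rw [h, hz g a h]
  · rcases Bool.eq_false_or_eq_true (inZ (slPerm g a).1) with h' | h'
    · exfalso
      have := hz g⁻¹ _ h'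
      rw [map_inv, Equiv.Perm.inv_def, Equiv.symm_apply_apply, h] at this
      exact Bool.noConfusion this
    · rw [h, h']

theorem slPerm_injective : Function.Injective slPerm := by
  rw [← MonoidHom.ker_eq_bot_iff, Subgroup.eq_bot_iff_forall]
  intro g hg
  have hg' : ∀ x, slMap g.1 x = x := fun x => by
    show slPerm g x = x
    rw [MonoidHom.mem_ker.mp hg]; rfl
  have hbiv : ∀ i < 5, ∀ j < 5, wedge ((colsOf g.1).getD i 0) ((colsOf g.1).getD j 0) = wedge (2 ^ i) (2 ^ j) := by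
    intro i hi j hj
    have hp : ∀ i < 5, 2 ^ i < 32 := by decide
    have h1 := bivM_spec (colsOf_lt g.1) _ (hp i hi) _ (hp j hj)
    rw [Cfsg.Lib.JankoFour.mv_two_pow, Cfsg.Lib.JankoFour.mv_two_pow] at h1
    rw [← h1]
    have h2 := congrArg Fin.val (hg' ⟨mv toA (wedge (2 ^ i) (2 ^ j)), toA_lt _⟩)
    have h3 : mv toA (mv (bivM (colsOf g.1)) (mv toW (mv toA (wedge (2 ^ i) (2 ^ j))))) =
      mv toA (wedge (2 ^ i) (2 ^ j)) := h2
    rw [(toA_toW _ (wedge_facts (hp i hi) (hp j hj)).1).2] at h3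
    have h4 := congrArg (mv toW) h3
    rwa [(toA_toW _ (mv_lt (n := 10) (bivM_lt (colsOf_lt _)) _)).2,
      (toA_toW _ (wedge_facts (hp i hi) (hp j hj)).1).2] at h4
  have hc : ∀ i : Fin 5, (colsOf g.1).getD i.1 0 = 2 ^ i.1 := by
    intro i
    have h1 := col_rigid
    have h2 := col_single
    simp only [List.all_eq_true, List.mem_range, Bool.or_eq_true, beq_iff_eq, Bool.and_eq_true, Bool.not_eq_true',
      Bool.and_eq_false_imp, beq_eq_false_iff_ne] at h1 h2
    set c := (colsOf g.1).getD i.1 0 with hc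
    have hcl : c < 32 := getD_lt (colsOf_lt _) _
    have hk : ∀ j < 5, j ≠ i.1 → c &&& (31 ^^^ (2 ^ i.1 ^^^ 2 ^ j)) = 0 := fun j hj hne =>
      ((h1 i.1 i.2 j hj).resolve_left (fun e => hne e.symm) c hcl _ (getD_lt (colsOf_lt _) j)).resolve_left
        (fun h => h (hbiv i.1 i.2 j hj))
    have h12 : ∀ i < 5, (i + 1) % 5 ≠ i ∧ (i + 2) % 5 ≠ i := by decide
    rcases h2 i.1 i.2 c hcl with (h | h) | h
    · exact absurd (hk _ (Nat.mod_lt _ (by norm_num)) (h12 i.1 i.2).2)
        (h (hk _ (Nat.mod_lt _ (by norm_num)) (h12 i.1 i.2).1))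
    · exfalso
      have hw := hbiv i.1 i.2 ((i.1 + 1) % 5) (Nat.mod_lt _ (by norm_num))
      rw [← hc, h, wedge_zero_left] at hw
      have hne : ∀ i < 5, wedge (2 ^ i) (2 ^ ((i + 1) % 5)) ≠ 0 := by decide +kernel
      exact hne i.1 i.2 hw.symm
    · exact h
  refine Subtype.ext (Matrix.ext fun a b => ?_)
  have hb := hc b
  rw [colsOf_getD] at hb
  have hp : ∀ j : Fin 5, enc (fun i => (1 : Matrix (Fin 5) (Fin 5) (ZMod 2)) i j) = 2 ^ j.1 := by decide +kernel
  exact congrFun (enc_inj (hb.trans (hp b).symm)) a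

theorem zmod2_unit (a : ZMod 2) (ha : IsUnit a) : a = 1 := by
  rcases (show a = 0 ∨ a = 1 by revert a; decide) with rfl | rfl
  · exact absurd ha not_isUnit_zero
  · rfl

theorem card_SL : Nat.card (Matrix.SpecialLinearGroup (Fin 5) (ZMod 2)) = 9999360 := by
  have hsurj : Function.Surjective
      (Matrix.SpecialLinearGroup.toGL : Matrix.SpecialLinearGroup (Fin 5) (ZMod 2) → GL (Fin 5) (ZMod 2)) := by
    intro u
    have hdet : Matrix.det (u : Matrix (Fin 5) (Fin 5) (ZMod 2)) = 1 :=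
      zmod2_unit _ ((Matrix.isUnit_iff_isUnit_det _).mp u.isUnit)
    refine ⟨⟨(u : Matrix (Fin 5) (Fin 5) (ZMod 2)), hdet⟩, Units.ext ?_⟩
    simp [Matrix.SpecialLinearGroup.toGL]
  have h : Nat.card (Matrix.SpecialLinearGroup (Fin 5) (ZMod 2)) = Nat.card (GL (Fin 5) (ZMod 2)) :=
    Nat.card_congr (Equiv.ofBijective _ ⟨Matrix.SpecialLinearGroup.toGL_injective, hsurj⟩)
  rw [h, Matrix.card_GL_field, ZMod.card]
  simp [Fin.prod_univ_five]

/-- The isomorphism with the special linear group. -/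
noncomputable def slEquiv : Matrix.SpecialLinearGroup (Fin 5) (ZMod 2) ≃* ↥XG :=
  MulEquiv.ofBijective (slPerm.codRestrict XG slPerm_mem) (by
    have hinj : Function.Injective (slPerm.codRestrict XG slPerm_mem) := fun a b e =>
      slPerm_injective (congrArg Subtype.val e)
    refine (Nat.bijective_iff_injective_and_card _).mpr ⟨hinj, le_antisymm (Nat.card_le_card_of_injective _ hinj) ?_⟩
    rw [card_SL]
    exact XG_card_le)

theorem XG_card : Nat.card ↥XG = 9999360 := by
  rw [← Nat.card_congr slEquiv.toEquiv, card_SL]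

end Cfsg.Lib.JankoFour.Ten
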