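import Cfsg.Agent.JankoFour.TenGroup.Main

/-!
The facts for an arbitrary self-centralising elementary abelian subgroup of order two to the tenth.
-/

set_option autoImplicit false
set_option maxRecDepth 100000
set_option maxHeartbeats 1000000
set_option linter.style.haveILetI false
set_option linter.unusedSectionVars false

namespace Cfsg.Lib.JankoFour

open Subgroup

universe u

variable {G : Type u} [Group G] [Finite G]

theorem map_conj_conj (A : Subgroup G) (g h : G) :
    (A.map (MulAut.conj g).toMonoidHom).map (MulAut.conj h).toMonoidHom = A.map (MulAut.conj (h * g)).toMonoidHom := by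
  rw [Subgroup.map_map]
  congr 1
  ext x
  simp [mul_assoc]

theorem normalizer_conj (A : Subgroup G) (g : G) :
    normalizer ((A.map (MulAut.conj g).toMonoidHom : Subgroup G) : Set G) =
      (normalizer (A : Set G)).map (MulAut.conj g).toMonoidHom :=
  (map_equiv_normalizer_eq A (MulAut.conj g)).symm

theorem exists_setting (hJ : Cfsg.IsOfJankoFourType G) : ∃ (z : G) (P : Subgroup G), Nonempty (Ctx z P) := by
  obtain ⟨z, P, h⟩ := hJ
  exact ⟨z, P, exists_ctx h⟩

theorem ten_exists [IsSimpleGroup G] (hG : ¬ IsMulCommutative G) (hJ : Cfsg.IsOfJankoFourType G) :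
    ∃ A : Subgroup G, Cfsg.IsElementaryAbelian 2 A ∧ Nat.card ↥A = 2 ^ 10 ∧ centralizer (A : Set G) = A := by
  obtain ⟨z, P, ⟨C⟩⟩ := exists_setting hJ
  exact ⟨C.A10, (C.A10_elem hG).1, C.A10_card hG, (C.A10_elem hG).2⟩

theorem ten_conj [IsSimpleGroup G] (hG : ¬ IsMulCommutative G) (hJ : Cfsg.IsOfJankoFourType G) {A A' : Subgroup G}
    (hA : Cfsg.IsElementaryAbelian 2 A) (hc : Nat.card ↥A = 2 ^ 10) (hs : centralizer (A : Set G) = A)
    (hA' : Cfsg.IsElementaryAbelian 2 A') (hc' : Nat.card ↥A' = 2 ^ 10) (hs' : centralizer (A' : Set G) = A') :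
    ∃ g : G, A' = A.map (MulAut.conj g).toMonoidHom := by
  obtain ⟨z, P, ⟨C⟩⟩ := exists_setting hJ
  obtain ⟨g, hg⟩ := C.conj_A10 hG hA hc hs
  obtain ⟨h, hh⟩ := C.conj_A10 hG hA' hc' hs'
  refine ⟨h⁻¹ * g, ?_⟩
  rw [← map_conj_conj, ← hg, hh, map_conj_conj, inv_mul_cancel, map_one]
  exact (Subgroup.map_id A').symm

theorem ten_normalizer [IsSimpleGroup G] (hG : ¬ IsMulCommutative G) (hJ : Cfsg.IsOfJankoFourType G) {A : Subgroup G}
    (hA : Cfsg.IsElementaryAbelian 2 A) (hc : Nat.card ↥A = 2 ^ 10) (hs : centralizer (A : Set G) = A) :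
    (∃ B : Subgroup G, B ≤ normalizer (A : Set G) ∧ B ⊓ A = ⊥ ∧ B ⊔ A = normalizer (A : Set G) ∧
      Nonempty (↥B ≃* Matrix.SpecialLinearGroup (Fin 5) (ZMod 2))) ∧
    (∀ W : Subgroup G, W ≤ A → normalizer (A : Set G) ≤ normalizer (W : Set G) → W = ⊥ ∨ W = A) ∧
    ∃ a b : G, a ∈ A ∧ b ∈ A ∧ Set.ncard {v : G | ∃ n ∈ normalizer (A : Set G), n * a * n⁻¹ = v} = 155 ∧
      Set.ncard {v : G | ∃ n ∈ normalizer (A : Set G), n * b * n⁻¹ = v} = 868 := by
  obtain ⟨z, P, ⟨C⟩⟩ := exists_setting hJ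
  obtain ⟨g, hg⟩ := C.conj_A10 hG hA hc hs
  have hA0 : A = C.A10.map (MulAut.conj g⁻¹).toMonoidHom := by
    rw [hg, map_conj_conj, inv_mul_cancel, map_one]
    exact (Subgroup.map_id A).symm
  set c := (MulAut.conj g⁻¹).toMonoidHom with hcdef
  have hinj : Function.Injective c := (MulAut.conj g⁻¹).injective
  have hN : normalizer (A : Set G) = (normalizer (C.A10 : Set G)).map c := by rw [hA0]; exact normalizer_conj _ _
  refine ⟨?_, ?_, ?_⟩
  · obtain ⟨B, hB1, hB2, hB3, ⟨e⟩⟩ := C.exists_split hG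
    refine ⟨B.map c, ?_, ?_, ?_, ⟨(B.equivMapOfInjective c hinj).symm.trans e⟩⟩
    · rw [hN]; exact map_mono hB1
    · rw [hA0, ← map_inf _ _ _ hinj, hB2, Subgroup.map_bot]
    · rw [hN]; conv_lhs => rw [hA0, ← Subgroup.map_sup, hB3]
  · intro W hW hinv
    set W' := W.comap c with hW'
    have hW'le : W' ≤ C.A10 := fun x hx => by
      have h : c x ∈ C.A10.map c := hA0 ▸ hW hx
      obtain ⟨y, hy, e⟩ := h
      exact hinj e ▸ hy
    have hWr : W ≤ c.range := fun x _ => ⟨(MulAut.conj g⁻¹).symm x, (MulAut.conj g⁻¹).apply_symm_apply x⟩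
    have hmap : W'.map c = W := Subgroup.map_comap_eq_self hWr
    have hinv' : normalizer (C.A10 : Set G) ≤ normalizer (W' : Set G) := fun n hn => by
      have h1 : c n ∈ normalizer (W : Set G) := hinv (hN ▸ mem_map_of_mem c hn)
      refine Subgroup.mem_normalizer_fintype fun x hx => ?_
      show c (n * x * n⁻¹) ∈ W
      rw [map_mul, map_mul, map_inv]
      exact (mem_normalizer_iff.mp h1 _).mp hx
    rcases C.irreducible hG hW'le hinv' with h | h
    · left; rw [← hmap, h, Subgroup.map_bot]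
    · right; rw [← hmap, h, hA0]
  · obtain ⟨x, hx, y, hy, hx1, hy1⟩ := C.orbit_sizes hG
    have horb : ∀ w, {v : G | ∃ n ∈ normalizer (A : Set G), n * c w * n⁻¹ = v} =
        c '' {v : G | ∃ n ∈ normalizer (C.A10 : Set G), n * w * n⁻¹ = v} := fun w => by
      ext v
      constructor
      · rintro ⟨n, hn, rfl⟩
        rw [hN] at hn
        obtain ⟨m, hm, rfl⟩ := hn
        exact ⟨_, ⟨m, hm, rfl⟩, by simp only [map_mul, map_inv]⟩
      · rintro ⟨_, ⟨m, hm, rfl⟩, rfl⟩
        exact ⟨c m, hN ▸ mem_map_of_mem c hm, by simp only [map_mul, map_inv]⟩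
    refine ⟨c x, c y, hA0 ▸ mem_map_of_mem c hx, hA0 ▸ mem_map_of_mem c hy, ?_, ?_⟩
    · rw [horb, Set.ncard_image_of_injective _ hinj, hx1]
    · rw [horb, Set.ncard_image_of_injective _ hinj, hy1]

end Cfsg.Lib.JankoFour
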