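import Cfsg.Agent.JankoFour.TenGroup.Frame
import Cfsg.Agent.JankoFour.TenGroup.Bivector

/-!
The normaliser of the subgroup of order two to the tenth induces the whole group of linear maps preserving the class.
-/

set_option autoImplicit false
set_option maxRecDepth 100000
set_option maxHeartbeats 1000000
set_option linter.style.haveILetI false
set_option linter.unusedSectionVars false

namespace Cfsg.Lib.JankoFour

open Subgroup
open TenData (orbReps zBasis orbSum)
open Ten (inZs inZ sig shiftS fx XG bigG oEnt oOK)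

universe u

variable {G : Type u} [Group G] [Finite G]

theorem outer_count : ((List.range 1024).filter fun k => k != 0 && !inZ k).length = 868 ∧ inZ 0 = false := by
  decide +kernel

theorem gen_inverse : (bigG.all fun M => M.all fun m => decide (m < 1024)) = true ∧
    ((List.range 3).all fun k => (List.range 10).all fun j =>
      mv (bigG.getD k []) (mv (bigG.getD ([0, 2, 1].getD k 0) []) (2 ^ j)) == 2 ^ j) = true ∧ bigG.length = 3 := by
  decide +kernel

/-- A closed set containing a basis contains its span. -/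
theorem mv_mem {S : ℕ → Prop} (h0 : S 0) (hx : ∀ a b, S a → S b → S (a ^^^ b)) :
    ∀ {B : List ℕ}, (∀ b ∈ B, S b) → ∀ n, S (mv B n) := by
  intro B
  induction B with
  | nil => intro _ n; simpa [mv] using h0
  | cons b r ih =>
    intro h n
    simp only [mv]
    refine hx _ _ ?_ (ih (fun c hc => h c (List.mem_cons_of_mem _ hc)) _)
    split
    · exact h b List.mem_cons_self
    · exact h0

theorem gen_perm {k : ℕ} (hk : k < 3) : ∃ τ ∈ XG, ∀ x : Fin 1024, (τ x).1 = mv (bigG.getD k []) x.1 := by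
  obtain ⟨hl, hinv, hlen⟩ := gen_inverse
  simp only [List.all_eq_true, decide_eq_true_eq] at hl
  simp only [List.all_eq_true, List.mem_range, beq_iff_eq] at hinv
  have hlt : ∀ k < 3, ∀ x, mv (bigG.getD k []) x < 1024 := fun k hk x => mv_lt (n := 10) (hl _ (by
    rw [List.getD_eq_getElem _ _ (hlen.symm ▸ hk)]; exact List.getElem_mem _)) x
  have hk' : [0, 2, 1].getD k 0 < 3 ∧ [0, 2, 1].getD ([0, 2, 1].getD k 0) 0 = k := by interval_cases k <;> decide
  have hcancel : ∀ k < 3, ∀ x < 1024, mv (bigG.getD k []) (mv (bigG.getD ([0, 2, 1].getD k 0) []) x) = x :=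
    fun k hk x hx => lin_ext (f := fun x => mv (bigG.getD k []) (mv (bigG.getD ([0, 2, 1].getD k 0) []) x)) (g := id)
      (· ^^^ ·) 10 (fun a b => by simp only [mv_xor]) (fun a b => rfl) (by simp [mv_zero]) (hinv k hk) x hx
  let τ : Equiv.Perm (Fin 1024) :=
    { toFun := fun x => ⟨_, hlt k hk x.1⟩
      invFun := fun x => ⟨_, hlt _ hk'.1 x.1⟩
      left_inv := fun x => Fin.ext (by
        show mv _ (mv (bigG.getD k []) x.1) = x.1
        have := hcancel _ hk'.1 x.1 x.2
        rwa [hk'.2] at this)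
      right_inv := fun x => Fin.ext (hcancel k hk x.1 x.2) }
  have h2 := Ten.orbit_tree.2
  simp only [List.all_eq_true, Bool.and_eq_true, Ten.zL, List.mem_filter, List.mem_range, decide_eq_true_eq] at h2
  have hpres : ∀ k < 3, ∀ x < 1024, inZ x = true → inZ (mv (bigG.getD k []) x) = true := fun k hk x hx hz =>
    (h2 _ (by rw [List.getD_eq_getElem _ _ (hlen.symm ▸ hk)]; exact List.getElem_mem _)).2 x ⟨hx, hz⟩
  refine ⟨τ, ⟨fun a b => Fin.ext (mv_xor _ a.1 b.1), fun a => ?_⟩, fun x => rfl⟩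
  show inZ (mv (bigG.getD k []) a.1) = inZ a.1
  rcases Bool.eq_false_or_eq_true (inZ a.1) with h | h
  · rw [h, hpres k hk a.1 a.2 h]
  · rw [h]
    refine Bool.eq_false_iff.mpr fun h' => ?_
    have := hpres _ hk'.1 _ (hlt k hk a.1) h'
    have hc := hcancel _ hk'.1 a.1 a.2
    rw [hk'.2] at hc
    rw [hc, h] at this
    exact Bool.noConfusion this

theorem to_orbit_rep : ∀ (n : ℕ) (x : Fin 1024), x.1 ≠ 0 → oEnt x.1 / 4 = n →
    ∃ τ ∈ XG, (τ x).1 = orbReps.getD (if inZ x.1 then 0 else 1) 0 := by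
  intro n
  induction n using Nat.strong_induction_on with
  | _ n ih =>
    intro x hx hn
    have h := Ten.orbit_tree.1
    simp only [List.all_eq_true, List.mem_range, Bool.or_eq_true, beq_iff_eq] at h
    have h' := (h x.1 x.2).resolve_left hx
    by_cases h0 : oEnt x.1 / 4 = 0
    · rw [oOK, beq_iff_eq.mpr h0, if_pos rfl, beq_iff_eq] at h'
      exact ⟨1, one_mem _, h'⟩
    · rw [oOK, beq_false_of_ne h0, if_neg Bool.false_ne_true] at h'
      simp only [Bool.and_eq_true, decide_eq_true_eq, beq_iff_eq, bne_iff_ne] at h'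
      obtain ⟨⟨⟨⟨hlt, hg⟩, hy⟩, hy0⟩, hc⟩ := h'
      obtain ⟨τ, hτ, hτx⟩ := gen_perm hg
      obtain ⟨ρ, hρ, hρx⟩ := ih _ (hn ▸ hlt) ⟨_, hy⟩ hy0 rfl
      refine ⟨ρ * τ, mul_mem hρ hτ, ?_⟩
      rw [Equiv.Perm.mul_apply, show τ x = ⟨_, hy⟩ from Fin.ext (hτx x), hρx]
      simp only [hc]

theorem class_trans {x y : Fin 1024} (hx : x.1 ≠ 0) (hy : y.1 ≠ 0) (hc : inZ x.1 = inZ y.1) :
    ∃ τ ∈ XG, τ x = y := by
  obtain ⟨s, hs, hsx⟩ := to_orbit_rep _ x hx rfl
  obtain ⟨t, ht, hty⟩ := to_orbit_rep _ y hy rfl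
  refine ⟨t⁻¹ * s, mul_mem (inv_mem ht) hs, ?_⟩
  rw [Equiv.Perm.mul_apply, Equiv.Perm.inv_eq_iff_eq]
  exact Fin.ext (by rw [hsx, hty, hc])

namespace Ctx

variable {z : G} {P : Subgroup G} (C : Ctx z P)

include C

theorem exists_act [IsSimpleGroup G] (hG : ¬ IsMulCommutative G) {a : ℕ → G} (ha : C.IsFrame a)
    (g : ↥(normalizer (C.A10 : Set G))) : ∃ σ : Equiv.Perm (Fin 1024), ∀ x : Fin 1024,
      C.coord a (σ x).1 = (g : G) * C.coord a x.1 * (g : G)⁻¹ := by
  choose f hf hfe using fun x : Fin 1024 =>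
    C.coord_surj hG ha ((mem_normalizer_iff.mp g.2 _).mp (C.coord_mem ha x.2))
  let F : Fin 1024 → Fin 1024 := fun x => ⟨f x, hf x⟩
  have hinj : Function.Injective F := by
    intro x y e
    have e' : f x = f y := congrArg Fin.val e
    have h : (g : G) * C.coord a x.1 * (g : G)⁻¹ = (g : G) * C.coord a y.1 * (g : G)⁻¹ := by rw [← hfe, ← hfe, e']
    exact Fin.ext (C.coord_inj ha x.2 y.2 (by simpa using h))
  exact ⟨Equiv.ofBijective F ⟨hinj, Finite.surjective_of_injective hinj⟩, fun x => hfe x⟩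

theorem act_linear [IsSimpleGroup G] (hG : ¬ IsMulCommutative G) {a : ℕ → G} (ha : C.IsFrame a)
    {g : G} {σ : Equiv.Perm (Fin 1024)} (h : ∀ x : Fin 1024, C.coord a (σ x).1 = g * C.coord a x.1 * g⁻¹)
    (x y : Fin 1024) : σ (fx x y) = fx (σ x) (σ y) := by
  refine Fin.ext (C.coord_inj ha (σ (fx x y)).2 (fx (σ x) (σ y)).2 ?_)
  show _ = C.coord a ((σ x).1 ^^^ (σ y).1)
  rw [← C.coord_mul hG ha (σ x).2 (σ y).2, h, h, h]
  show g * C.coord a (x.1 ^^^ y.1) * g⁻¹ = _
  rw [← C.coord_mul hG ha x.2 y.2]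
  group

/-- A frame in whose coordinates the class is the standard one. -/
theorem exists_coord [IsSimpleGroup G] (hG : ¬ IsMulCommutative G) :
    ∃ a : ℕ → G, C.IsFrame a ∧ ∀ k < 1024, (IsConj z (C.coord a k) ↔ inZ k = true) := by
  classical
  obtain ⟨a, ha, b, hb, hab⟩ := C.exists_param hG
  have h0 : b = 0 := by
    by_contra hne
    have h := Ten.sig_unique
    simp only [List.all_eq_true, List.mem_range, Bool.or_eq_true, beq_iff_eq, Bool.and_eq_true, decide_eq_true_eq,
      Bool.not_eq_true', beq_eq_false_iff_ne] at h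
    obtain ⟨⟨hd, hdl⟩, hval⟩ := (h b hb).resolve_left hne
    obtain ⟨n, hn, hne'⟩ := C.fuse_A10 hG (C.coord_mem ha hdl) ((hab _ hdl).mpr hd)
    obtain ⟨σ, hσ⟩ := C.exists_act hG ha ⟨n, hn⟩
    have hz1 : C.coord a 1 = z := by
      simp [Ctx.coord, zb, frameProd, Ten.dPart, mv_zero, C.sec_zero]
    have hσ1 : (σ 1).1 = Ten.sigWit.getD b 0 := C.coord_inj ha (σ 1).2 hdl (by
      rw [hσ, show ((1 : Fin 1024) : ℕ) = 1 from rfl, hz1]; exact hne')
    have hZ : ∀ x : Fin 1024, inZs b (σ x).1 = inZs b x.1 := fun x => by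
      rw [Bool.eq_iff_iff, ← hab _ (σ x).2, ← hab _ x.2, hσ]
      exact ⟨fun h => h.trans (isConj_iff.mpr ⟨n⁻¹, by simp [mul_assoc]⟩),
        fun h => h.trans (isConj_iff.mpr ⟨n, rfl⟩)⟩
    have hcount : ∀ d, Ten.val b d =
        (Finset.univ.filter fun x : Fin 1024 => (inZs b x.1 && inZs b (x.1 ^^^ d)) = true).card := fun d => by
      rw [Ten.val, ← List.toFinset_card_of_nodup (List.nodup_range.filter _),
        ← Finset.card_map Fin.valEmbedding]
      congr 1
      ext x
      simp only [List.mem_toFinset, List.mem_filter, List.mem_range, Finset.mem_map, Finset.mem_filter,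
        Finset.mem_univ, true_and]
      exact ⟨fun h => ⟨⟨x, h.1⟩, h.2, rfl⟩, fun ⟨y, h, e⟩ => e ▸ ⟨y.2, h⟩⟩
    refine hval ?_
    rw [hcount, hcount, ← hσ1]
    refine (Finset.card_equiv σ fun x => ?_).symm
    have e : (σ x).1 ^^^ (σ 1).1 = (σ (fx x 1)).1 :=
      (congrArg Fin.val (C.act_linear hG ha hσ x 1)).symm
    simp only [Finset.mem_filter, Finset.mem_univ, true_and, hZ x, e, hZ (fx x 1)]
    rfl
  subst h0
  refine ⟨a, ha, fun k hk => ?_⟩
  rw [hab k hk, inZs, shiftS]
  have hs : ∀ n < 8, (sig 0).getD n false = false := by decide +kernel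
  rw [hs _ (show k / 128 < 8 by omega)]
  simp

/-- The induced group. -/
theorem exists_automiser [IsSimpleGroup G] (hG : ¬ IsMulCommutative G) :
    ∃ (a : ℕ → G) (φ : ↥(normalizer (C.A10 : Set G)) →* ↥XG), C.IsFrame a ∧
      (∀ k < 1024, (IsConj z (C.coord a k) ↔ inZ k = true)) ∧ Function.Surjective φ ∧
      φ.ker = C.A10.subgroupOf (normalizer (C.A10 : Set G)) ∧
      ∀ g x, C.coord a ((φ g).1 x).1 = (g : G) * C.coord a x.1 * (g : G)⁻¹ := by
  classical
  obtain ⟨a, ha, haZ⟩ := C.exists_coord hG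
  choose act hact using fun g => C.exists_act hG ha g
  have huniq : ∀ (g : ↥(normalizer (C.A10 : Set G))) (σ : Equiv.Perm (Fin 1024)),
      (∀ x : Fin 1024, C.coord a (σ x).1 = (g : G) * C.coord a x.1 * (g : G)⁻¹) → σ = act g := fun g σ h =>
    Equiv.ext fun x => Fin.ext (C.coord_inj ha (σ x).2 (act g x).2 (by rw [h, hact]))
  have hmem : ∀ g, act g ∈ XG := fun g => ⟨C.act_linear hG ha (hact g), fun x => by
    rw [Bool.eq_iff_iff, ← haZ _ (act g x).2, ← haZ _ x.2, hact]
    exact ⟨fun h => h.trans (isConj_iff.mpr ⟨(g : G)⁻¹, by simp [mul_assoc]⟩),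
      fun h => h.trans (isConj_iff.mpr ⟨(g : G), rfl⟩)⟩⟩
  let φ : ↥(normalizer (C.A10 : Set G)) →* ↥XG :=
    { toFun := fun g => ⟨act g, hmem g⟩
      map_one' := Subtype.ext (huniq 1 1 fun x => by simp).symm
      map_mul' := fun g h => Subtype.ext (huniq (g * h) (act g * act h) fun x => by
        rw [Equiv.Perm.mul_apply, hact, hact, Subgroup.coe_mul]
        group).symm }
  have hker : φ.ker = C.A10.subgroupOf (normalizer (C.A10 : Set G)) := by
    ext g
    rw [MonoidHom.mem_ker, mem_subgroupOf]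
    constructor
    · intro h
      refine (SetLike.ext_iff.mp (C.A10_elem hG).2 _).mp (mem_centralizer_iff.mpr fun x hx => ?_)
      obtain ⟨k, hk, rfl⟩ := C.coord_surj hG ha hx
      have h' := hact g ⟨k, hk⟩
      rw [show act g = 1 from congrArg Subtype.val h] at h'
      exact (mul_inv_eq_iff_eq_mul.mp h'.symm).symm
    · intro h
      refine Subtype.ext (huniq g 1 fun x => ?_).symm
      have hc : C.coord a x.1 * (g : G) = (g : G) * C.coord a x.1 := mem_centralizer_iff.mp
        ((C.A10_elem hG).2.symm ▸ h : (g : G) ∈ centralizer (C.A10 : Set G)) _ (C.coord_mem ha x.2)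
      rw [← hc, mul_inv_cancel_right]
      rfl
  refine ⟨a, φ, ha, haZ, ?_, hker, hact⟩
  rw [← MonoidHom.range_eq_top]
  refine Subgroup.eq_top_of_le_card φ.range ?_
  have h1 := φ.ker.card_mul_index
  rw [index_ker, hker, Nat.card_congr (subgroupOfEquivOfLe le_normalizer).toEquiv, C.A10_card hG] at h1
  have h2 := C.range_mul hG
  have h3 := C.range_ge hG
  rw [Ten.XG_card]
  omega

end Ctx

end Cfsg.Lib.JankoFour
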