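import Cfsg.Agent.JankoFour.SplitChecks
import Cfsg.Agent.JankoFour.StabChecks
import Cfsg.Agent.JankoFour.TenGroup.Data

/-!
Finite checks on the candidate spaces for the subgroups of order two to the tenth, their index subgroups and the
commutators of the extraspecial subgroup with lifts.
-/

set_option autoImplicit false
set_option maxRecDepth 100000

namespace Cfsg.Lib.JankoFour.Ten

open TenData

/-- The combinations of a list of codes. -/
def spanM (B : List ℕ) : List ℕ := (List.range (2 ^ B.length)).map (mv B)

/-- A certificate that the fixed space of a list of indices lies in a span. -/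
def kerB (g : List ℕ) (c : List ℕ × List ℕ × List ℕ) : Bool :=
  (idM.all fun x => mv c.1 (stackL g x) ^^^ mv c.2.2 (mv c.2.1 x) == x) && c.2.1.all fun n => decide (n < 2 ^ c.2.2.length)

/-- The possible fixed spaces of an index subgroup of order eight. -/
def entOK (A : ℕ × List ℕ) (c : List ℕ × List ℕ × List ℕ) : Bool :=
  kerB A.2 c && (decide (c.2.2.length ≤ 4) ||
    (decide (c.2.2 = Data.w0B) && A.2.all fun i => (spanL Data.X0.2).contains i) ||
    (decide (c.2.2 = d1B) && decide (A.2 = iTen)) || decide (c.2.2 = d2B))

theorem cand_three : (fixC3.length == Data.ab3.length && (List.range Data.ab3.length).all fun i =>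
    entOK (Data.ab3.getD i (0, [])) (fixC3.getD i ([], [], []))) = true := by decide +kernel

theorem swap_ok : swIdx < 256 ∧ d2B.length = 6 ∧
    (d2B.all fun b => (spanM d1B).contains (mv (elt swIdx) b)) = true := by decide +kernel

theorem d1_ok : d1B.length = 6 ∧ (spanM d1B).Nodup ∧
    ((spanM d1B).all fun x => decide (x < 4096) && !qB x && (spanM d1B).contains (mv Data.OM x)) = true ∧
    ((spanM d1B).all fun x => (spanM d1B).all fun y => !pB x y) = true ∧
    ((spanM d1B).filter fun x => x != 0 && cls x == 1).length = 42 := by decide +kernel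

theorem d1_perp : ((List.range 4096).all fun y => d1B.any (fun b => pB y b) || (spanM d1B).contains y) = true := by
  decide +kernel

theorem iTen_ok : spanL iTen = iIdx ∧ iIdx.Nodup ∧ iTen.length = 3 ∧
    (iIdx.all fun i => decide (i < 256) && mul8 i i == 0 && mm (elt i) Data.OM == mm Data.OM (elt i) &&
      ((spanM d1B).all fun x => mv (elt i) x == x) && iIdx.all fun j => mul8 i j == mul8 j i && iIdx.contains (mul8 i j)) =
        true ∧
    ((List.range 8).all fun n => (List.range 8).all fun m =>
      mul8 (iIdx.getD n 0) (iIdx.getD m 0) == iIdx.getD (n ^^^ m) 0) = true ∧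
    iTen = [iIdx.getD 1 0, iIdx.getD 2 0, iIdx.getD 4 0] := by
  decide +kernel

/-- The commutator codes with signs of an exponent. -/
def comms (n : ℕ) : List (ℕ × Bool) := fI.getD n []

theorem fI_ok : ((List.range 8).all fun n => n == 0 ||
    ((comms n).length == 16 && decide ((comms n).map Prod.fst).Nodup &&
      (comms n).all (fun t => (spanM d1B).contains t.1))) = true ∧
    ((List.range 8).all fun n => n == 0 || (List.range 4096).all fun y =>
      (fun x => (comms n).contains (x, pB (mv Data.OM y) x)) (xm (elt (iIdx.getD n 0)) y)) = true ∧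
    ((List.range 8).all fun n => n == 0 || (comms n).contains (0, false)) = true := by
  decide +kernel

/-- The stabiliser of the three-dimensional fixed space in the table. -/
theorem tIdx_ok : tIdx.Nodup ∧ tIdx.length = 128 ∧
    (tIdx.all fun i => decide (i < 256) && d1B.all fun b => (spanM d1B).contains (mv (elt i) b)) = true := by
  decide +kernel

theorem words_ok : (w7.all fun i => decide (i < 3)) = true ∧ (w3.all fun i => decide (i < 3)) = true ∧
    (d1B.all fun b => (spanM d1B).contains (mv (wM [Data.A, Data.B, Data.C] w7) b)) = true ∧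
    (d1B.all fun b => (spanM d1B).contains (mv (wM [Data.A, Data.B, Data.C] w3) b)) = true ∧
    mpow (wM [Data.A, Data.B, Data.C] w7) 7 = idM ∧ wM [Data.A, Data.B, Data.C] w7 ≠ idM ∧
    mpow (wM [Data.A, Data.B, Data.C] w3) 3 = idM ∧
    mm (wM [Data.A, Data.B, Data.C] w3) Data.OM = mm Data.OM (wM [Data.A, Data.B, Data.C] w3) ∧
    ((List.range 3).all fun a => (List.range 3).all fun b => (a == 0 && b == 0) ||
      !(mm (mpow Data.OM a) (mpow (wM [Data.A, Data.B, Data.C] w3) b) == idM)) = true := by
  decide +kernel

theorem w7_orbit : ((List.range 8).all fun m => m == 0 || (List.range 7).any fun k =>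
    (fun M => mm M (elt (iIdx.getD 1 0)) == mm (elt (iIdx.getD m 0)) M) (mpow (wM [Data.A, Data.B, Data.C] w7) k)) =
      true := by
  decide +kernel

end Cfsg.Lib.JankoFour.Ten
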