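import Cfsg.Agent.JankoFour.Lifts
import Cfsg.Agent.JankoFour.Classify
import Cfsg.Agent.JankoFour.TenGroup.Checks

/-!
The section of the extraspecial group given by the element of order three, and the first candidate space with its
centraliser.
-/

set_option autoImplicit false
set_option maxRecDepth 100000
set_option maxHeartbeats 1000000
set_option linter.style.haveILetI false
set_option linter.unusedSectionVars false

namespace Cfsg.Lib.JankoFour

open Subgroup
open TenData (d1B d2B iIdx)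
open Ten (spanM)

universe u

variable {G : Type u} [Group G] [Finite G]

theorem mv_two_pow : ∀ (L : List ℕ) (k : ℕ), mv L (2 ^ k) = L.getD k 0 := by
  intro L
  induction L with
  | nil => intro k; simp [mv]
  | cons m r ih =>
    intro k
    cases k with
    | zero => simp [mv, mv_zero]
    | succ k =>
      have h1 : 2 ^ (k + 1) % 2 = 0 := by rw [pow_succ]; simp
      have h2 : 2 ^ (k + 1) / 2 = 2 ^ k := by rw [pow_succ]; simp
      simp [mv, h1, h2, ih]

theorem mem_spanM {B : List ℕ} {x : ℕ} : x ∈ spanM B ↔ ∃ n < 2 ^ B.length, mv B n = x := by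
  simp [spanM]

theorem zero_mem_spanM (B : List ℕ) : (0 : ℕ) ∈ spanM B := mem_spanM.mpr ⟨0, Nat.two_pow_pos _, mv_zero B⟩

theorem spanM_xor {B : List ℕ} {a b : ℕ} (ha : a ∈ spanM B) (hb : b ∈ spanM B) : a ^^^ b ∈ spanM B := by
  obtain ⟨n, hn, rfl⟩ := mem_spanM.mp ha
  obtain ⟨m, hm, rfl⟩ := mem_spanM.mp hb
  exact mem_spanM.mpr ⟨n ^^^ m, Nat.xor_lt_two_pow hn hm, mv_xor B n m⟩

/-- A linear map carrying a basis into a span carries the span into it. -/
theorem spanM_map {M B B' : List ℕ} (h : ∀ b ∈ B, mv M b ∈ spanM B') : ∀ x ∈ spanM B, mv M x ∈ spanM B' := by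
  intro x hx
  obtain ⟨n, -, rfl⟩ := mem_spanM.mp hx
  clear hx
  induction B generalizing n with
  | nil => simp only [mv]; rw [mv_zero]; exact zero_mem_spanM _
  | cons b r ih =>
    simp only [mv, mv_xor]
    refine spanM_xor ?_ (ih (fun c hc => h c (List.mem_cons_of_mem _ hc)) _)
    split
    · exact h b List.mem_cons_self
    · rw [mv_zero]; exact zero_mem_spanM _

theorem d1_spec {x : ℕ} (hx : x ∈ spanM d1B) : x < 4096 ∧ qB x = false ∧ mv Data.OM x ∈ spanM d1B := by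
  have h := Ten.d1_ok.2.2.1
  simp only [List.all_eq_true, Bool.and_eq_true, decide_eq_true_eq, Bool.not_eq_true', List.contains_iff_mem] at h
  exact ⟨(h x hx).1.1, (h x hx).1.2, (h x hx).2⟩

theorem d1_iso {x y : ℕ} (hx : x ∈ spanM d1B) (hy : y ∈ spanM d1B) : pB x y = false := by
  have h := Ten.d1_ok.2.2.2.1
  simp only [List.all_eq_true, Bool.not_eq_true'] at h
  exact h x hx y hy

theorem d1_perp_mem {y : ℕ} (hy : y < 4096) (h : ∀ b ∈ spanM d1B, pB y b = false) : y ∈ spanM d1B := by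
  have h1 := List.all_eq_true.mp Ten.d1_perp y (List.mem_range.mpr hy)
  simp only [Bool.or_eq_true, List.any_eq_true, List.contains_iff_mem] at h1
  rcases h1 with ⟨b, hb, hyb⟩ | h1
  · have hb' : b ∈ spanM d1B := by
      obtain ⟨k, hk, rfl⟩ := List.getElem_of_mem hb
      exact mem_spanM.mpr ⟨2 ^ k, Nat.pow_lt_pow_right one_lt_two hk, by
        rw [mv_two_pow, List.getD_eq_getElem _ _ hk]⟩
    simp [h b hb'] at hyb
  · exact h1

theorem d1_card : (spanM d1B).toFinset.card = 64 := by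
  rw [List.toFinset_card_of_nodup Ten.d1_ok.2.1, spanM, List.length_map, List.length_range, Ten.d1_ok.1]
  norm_num

/-- The power of an involution with given exponent. -/
def zb (z : G) (b : Bool) : G := if b then z else 1

namespace Ctx

variable {z : G} {P : Subgroup G} (C : Ctx z P)

include C

theorem π_z : C.π z = 0 := (C.π_zero z C.X.mem).mpr (Or.inr rfl)

theorem zb_mem (b : Bool) : zb z b ∈ C.E := by
  cases b
  exacts [one_mem _, C.X.mem]

theorem π_zb (b : Bool) : C.π (zb z b) = 0 := by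
  cases b
  exacts [C.π_one, C.π_z]

theorem zb_mul (a b : Bool) : zb z a * zb z b = zb z (xor a b) := by
  cases a <;> cases b <;> simp [zb, C.X.zz]

theorem zb_comm (b : Bool) {g : G} (hg : g ∈ centralizer ({z} : Set G)) : Commute (zb z b) g := by
  cases b
  exacts [Commute.one_left g, (C.z_comm hg).symm]

theorem conj_eq_zb {a c : G} (ha : a ∈ C.E) (hc : c ∈ C.E) :
    a * c = zb z (pB (C.π a) (C.π c)) * (c * a) := by
  rcases C.X.comm a ha c hc with e | e
  · have hcom : Commute a c := commutatorElement_eq_one_iff_mul_comm.mp e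
    rw [(C.π_comm a ha c hc).mp hcom]
    simp [zb, hcom.eq]
  · have hac : a * c = z * (c * a) := by
      rw [commutatorElement_def] at e
      calc a * c = a * c * a⁻¹ * c⁻¹ * (c * a) := by group
        _ = z * (c * a) := by rw [e]
    cases hp : pB (C.π a) (C.π c)
    · exfalso
      have hcom := (C.π_comm a ha c hc).mpr hp
      exact C.X.ne (by simpa [hcom.eq] using hac.symm)
    · simpa [zb] using hac

/-- The section. -/
noncomputable def sec (x : ℕ) : G :=
  if _h : x < 4096 then C.hh (C.π_surj (mv Data.OM x) (mv_lt (n := 12) (by decide +kernel) x)).choose else 1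

theorem sec_eq {x : ℕ} (hx : x < 4096) {u : G} (hu : u ∈ C.E) (e : C.π u = mv Data.OM x) : C.sec x = C.hh u := by
  rw [sec, dif_pos hx]
  have h := (C.π_surj (mv Data.OM x) (mv_lt (n := 12) (by decide +kernel) x)).choose_spec
  exact C.hh_shift h.1 hu (h.2.trans e.symm)

theorem sec_pre {x : ℕ} : ∃ u ∈ C.E, C.π u = mv Data.OM x :=
  C.π_surj _ (mv_lt (n := 12) (by decide +kernel) x)

theorem sec_mem {x : ℕ} (hx : x < 4096) : C.sec x ∈ C.E ∧ C.π (C.sec x) = x := by
  obtain ⟨u, hu, e⟩ := C.sec_pre (x := x)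
  rw [C.sec_eq hx hu e]
  exact ⟨mul_mem hu (C.conj_mem C.pH hu), by rw [C.hh_π hu, e]; exact (Nat.xor_comm _ _).trans (OM_sum hx)⟩

theorem sec_zero : C.sec 0 = 1 := by
  rw [C.sec_eq (by norm_num) (one_mem _) (by rw [C.π_one, mv_zero]), hh]
  group

theorem sec_mul {a b : ℕ} (ha : a < 4096) (hb : b < 4096) :
    C.sec a * C.sec b = zb z (pB (mv Data.OM a) b) * C.sec (a ^^^ b) := by
  obtain ⟨u, hu, eu⟩ := C.sec_pre (x := a)
  obtain ⟨v, hv, ev⟩ := C.sec_pre (x := b)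
  have hu' : C.p * u * C.p⁻¹ ∈ C.E := C.conj_mem C.pH hu
  have e2 : C.π (u * v) = mv Data.OM (a ^^^ b) := by rw [C.π_mul u hu v hv, eu, ev, mv_xor]
  rw [C.sec_eq ha hu eu, C.sec_eq hb hv ev, C.sec_eq (Nat.xor_lt_two_pow (n := 12) ha hb) (mul_mem hu hv) e2]
  have hsw := C.conj_eq_zb hu' hv
  rw [C.rep_p u hu, eu, ev, pB_inv Data.OM (by simp) _ (mv_lt (n := 12) (by decide +kernel) _) _ hb] at hsw
  have hc := C.zb_comm (pB (mv Data.OM a) b) (C.le hu)
  show u * (C.p * u * C.p⁻¹) * (v * (C.p * v * C.p⁻¹)) = _ * (u * v * (C.p * (u * v) * C.p⁻¹))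
  calc u * (C.p * u * C.p⁻¹) * (v * (C.p * v * C.p⁻¹))
      = u * ((C.p * u * C.p⁻¹) * v) * (C.p * v * C.p⁻¹) := by group
    _ = u * (zb z (pB (mv Data.OM a) b) * (v * (C.p * u * C.p⁻¹))) * (C.p * v * C.p⁻¹) := by rw [hsw]
    _ = (u * zb z (pB (mv Data.OM a) b)) * v * ((C.p * u * C.p⁻¹) * (C.p * v * C.p⁻¹)) := by group
    _ = (zb z (pB (mv Data.OM a) b) * u) * v * ((C.p * u * C.p⁻¹) * (C.p * v * C.p⁻¹)) := by rw [hc.eq]
    _ = _ := by group

theorem sec_mul_d1 {a b : ℕ} (ha : a ∈ spanM d1B) (hb : b ∈ spanM d1B) : C.sec a * C.sec b = C.sec (a ^^^ b) := by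
  rw [C.sec_mul (d1_spec ha).1 (d1_spec hb).1, d1_iso (d1_spec ha).2.2 hb]
  exact one_mul _

theorem sec_conj {g : G} {M : List ℕ} (hg : g ∈ centralizer ({z} : Set G)) (hp : Commute g C.p)
    (hr : RepBy C.E C.π g M) (hl : ∀ x, mv M x < 4096) (hOM : ∀ x < 4096, mv M (mv Data.OM x) = mv Data.OM (mv M x))
    {x : ℕ} (hx : x < 4096) : g * C.sec x * g⁻¹ = C.sec (mv M x) := by
  obtain ⟨u, hu, e⟩ := C.sec_pre (x := x)
  rw [C.sec_eq hx hu e, C.sec_eq (hl x) (C.conj_mem hg hu) (by rw [hr u hu, e, hOM x hx]), hh, hh,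
    show g * (u * (C.p * u * C.p⁻¹)) * g⁻¹ = g * u * g⁻¹ * ((g * C.p) * u * (g * C.p)⁻¹) by group, hp.eq]
  group

/-- The first candidate space. -/
def Dt : Set G := {q | q ∈ C.E ∧ C.π q ∈ spanM d1B}

/-- The subgroup of order two to the tenth. -/
def A10 : Subgroup G := centralizer C.Dt

theorem z_mem_Dt : z ∈ C.Dt := ⟨C.X.mem, by rw [C.π_z]; exact zero_mem_spanM _⟩

theorem A10_le_H : C.A10 ≤ centralizer ({z} : Set G) := fun h hh =>
  mem_centralizer_singleton_iff.mpr (mem_centralizer_iff.mp hh z C.z_mem_Dt).symm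

theorem Dt_comm {q r : G} (hq : q ∈ C.Dt) (hr : r ∈ C.Dt) : Commute q r :=
  (C.π_comm q hq.1 r hr.1).mpr (d1_iso hq.2 hr.2)

theorem Dt_le {q : G} (hq : q ∈ C.Dt) : q ∈ C.A10 := mem_centralizer_iff.mpr fun _ hr => (C.Dt_comm hr hq).eq

theorem sec_Dt {x : ℕ} (hx : x ∈ spanM d1B) : C.sec x ∈ C.Dt := by
  obtain ⟨h1, h2⟩ := C.sec_mem (d1_spec hx).1
  exact ⟨h1, by rw [h2]; exact hx⟩

theorem A10_inf_E {q : G} (hq : q ∈ C.A10) (hE : q ∈ C.E) : q ∈ C.Dt := by
  refine ⟨hE, d1_perp_mem (C.π_lt q) fun b hb => ?_⟩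
  obtain ⟨h1, h2⟩ := C.sec_mem (d1_spec hb).1
  have hc : Commute q (C.sec b) := (mem_centralizer_iff.mp hq _ (C.sec_Dt hb)).symm
  have := (C.π_comm q hE _ h1).mp hc
  rwa [h2] at this

/-- The centraliser of the candidate space acts trivially on the quotient by it. -/
theorem A10_shift {h q : G} (hh : h ∈ C.A10) (hq : q ∈ C.E) : q⁻¹ * (h * q * h⁻¹) ∈ C.Dt := by
  have hw := C.conj_mem (C.A10_le_H hh) hq
  refine ⟨mul_mem (inv_mem hq) hw, ?_⟩
  rw [C.π_mul _ (inv_mem hq) _ hw, C.π_inv hq]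
  refine d1_perp_mem (Nat.xor_lt_two_pow (n := 12) (C.π_lt _) (C.π_lt _)) fun b hb => ?_
  obtain ⟨h1, h2⟩ := C.sec_mem (d1_spec hb).1
  have hc : h * C.sec b * h⁻¹ = C.sec b := by
    rw [← mem_centralizer_iff.mp hh _ (C.sec_Dt hb), mul_inv_cancel_right]
  have hiff : Commute (h * q * h⁻¹) (C.sec b) ↔ Commute q (C.sec b) := by
    conv_lhs => rw [← hc]
    exact ⟨fun e => by simpa [mul_assoc] using (e.map (MulAut.conj h⁻¹).toMonoidHom),
      fun e => e.map (MulAut.conj h).toMonoidHom⟩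
  rw [C.π_comm _ hw _ h1, C.π_comm _ hq _ h1, h2] at hiff
  rw [pB_xor_left]
  cases h3 : pB (C.π q) b <;> cases h4 : pB (C.π (h * q * h⁻¹)) b <;> simp_all

theorem A10_sq {h : G} (hh : h ∈ C.A10) : h * h ∈ C.E := by
  have hH := C.A10_le_H hh
  refine C.ker _ (mul_mem hH hH) fun q hq => ?_
  obtain ⟨r, hr, e⟩ : ∃ r ∈ C.Dt, h * q * h⁻¹ = q * r := ⟨_, C.A10_shift hh hq, by group⟩
  have hfix : h * r * h⁻¹ = r := by rw [← mem_centralizer_iff.mp hh r hr, mul_inv_cancel_right]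
  have e2 : h * h * q * (h * h)⁻¹ = q * r * r := by
    calc h * h * q * (h * h)⁻¹ = h * (h * q * h⁻¹) * h⁻¹ := by group
      _ = h * (q * r) * h⁻¹ := by rw [e]
      _ = (h * q * h⁻¹) * (h * r * h⁻¹) := by group
      _ = _ := by rw [hfix, e]
  rw [e2, C.π_mul _ (mul_mem hq hr.1) _ hr.1, C.π_mul _ hq _ hr.1, Nat.xor_assoc, Nat.xor_self, Nat.xor_zero]

theorem A10_pgroup : IsPGroup 2 ↥C.A10 := by
  intro h
  refine ⟨3, Subtype.ext ?_⟩
  have h2 := C.A10_sq h.2
  have h4 : ((h : G) * h) * ((h : G) * h) = 1 ∨ ((h : G) * h) * ((h : G) * h) = z := C.sq_cases h2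
  show (h : G) ^ 8 = 1
  rw [show (h : G) ^ 8 = (((h : G) * h) * ((h : G) * h)) * (((h : G) * h) * ((h : G) * h)) by
    simp [pow_succ, mul_assoc]]
  rcases h4 with e | e <;> rw [e]
  exacts [one_mul 1, C.X.zz]

end Ctx

end Cfsg.Lib.JankoFour
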