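import Cfsg.Agent.JankoFour.Involutions
import Cfsg.Agent.JankoFour.TenGroup.Sections

/-!
The subgroups of order at least two to the tenth of the Sylow subgroup centralising their intersection with the
extraspecial subgroup.
-/

set_option autoImplicit false
set_option maxRecDepth 100000
set_option maxHeartbeats 1000000
set_option linter.style.haveILetI false
set_option linter.unusedSectionVars false

namespace Cfsg.Lib.JankoFour

open Subgroup
open TenData (d1B d2B iTen fixC3 swIdx)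
open Ten (spanM)
open Data (X0 W0 ab1 ab2 ab3 ab4 ab5)

universe u

variable {G : Type u} [Group G] [Finite G]

theorem X0_fixers : ((List.range 4096).all fun u => W0.contains u ||
    decide (((spanL X0.2).filter fun i => mv (elt i) u == u).length < 8)) = true := by decide +kernel

theorem kerB_sound {g : List ℕ} {c : List ℕ × List ℕ × List ℕ} (h : Ten.kerB g c = true) {x : ℕ} (hx : x < 4096)
    (hfix : ∀ i ∈ g, mv (elt i) x = x) : x ∈ spanM c.2.2 := by
  simp only [Ten.kerB, Bool.and_eq_true, List.all_eq_true, beq_iff_eq, decide_eq_true_eq] at h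
  have he := lin_ext (f := fun x => mv c.1 (stackL g x) ^^^ mv c.2.2 (mv c.2.1 x)) (g := id) (· ^^^ ·) 12
    (fun a b => by simp only [stackL_xor, mv_xor]; simp [Nat.xor_assoc, Nat.xor_left_comm])
    (fun a b => rfl) (by simp [stackL_fix g 0 fun i _ => mv_zero _, mv_zero]) (fun j hj => h.1 _ (idM_two_pow hj)) x hx
  simp only [stackL_fix g x hfix, mv_zero, Nat.zero_xor, id_eq] at he
  rw [← he]
  exact mem_spanM.mpr ⟨_, mv_lt (n := c.2.2.length) h.2 x, rfl⟩

namespace Ctx

variable {z : G} {P : Subgroup G} (C : Ctx z P)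

include C

theorem exists_idx {a : G} (ha : a ∈ C.S) :
    ∃ i < 256, RepBy C.E C.π a (elt i) ∧ ∀ j < 256, RepBy C.E C.π a (elt j) → j = i := by
  obtain ⟨-, i, hi, hr⟩ := C.mem_S.mp ha
  exact ⟨i, hi, hr, fun j hj hj' => elt_inj hj hi (C.rep_unique hj' hr)⟩

theorem card_le_index {A : Subgroup G} (hAS : A ≤ C.S) (I : Finset ℕ)
    (hI : ∀ a ∈ A, ∀ i < 256, RepBy C.E C.π a (elt i) → i ∈ I) :
    Nat.card ↥A ≤ I.card * Nat.card ↥(A ⊓ C.E) := by
  classical
  choose idx hidx hrep _huniq using fun a : ↥A => C.exists_idx (hAS a.2)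
  have hH : ∀ a : ↥A, (a : G) ∈ centralizer ({z} : Set G) := fun a => (C.mem_S.mp (hAS a.2)).1
  haveI : Fintype ↥A := Fintype.ofFinite _
  set J : Finset ℕ := Finset.univ.image idx with hJ
  have hmem : ∀ a : ↥A, idx a ∈ J := fun a => Finset.mem_image.mpr ⟨a, Finset.mem_univ _, rfl⟩
  choose rp hrp using fun i : ↥J => Finset.mem_image.mp i.2
  let g : ↥A → ↥J × ↥(A ⊓ C.E) := fun a =>
    (⟨idx a, hmem a⟩, ⟨((rp ⟨idx a, hmem a⟩ : ↥A) : G)⁻¹ * (a : G),
      Subgroup.mem_inf.mpr ⟨A.mul_mem (A.inv_mem (rp ⟨idx a, hmem a⟩).2) a.2,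
        C.rep_quot (hH a) (hH _) (hrep a) (by
          have h := hrep (rp ⟨idx a, hmem a⟩)
          rwa [(hrp ⟨idx a, hmem a⟩).2] at h)⟩⟩)
  have hg : Function.Injective g := by
    intro a b e
    simp only [g, Prod.mk.injEq, Subtype.mk.injEq] at e
    obtain ⟨e1, e2⟩ := e
    rw [show rp ⟨idx a, hmem a⟩ = rp ⟨idx b, hmem b⟩ by simp only [e1]] at e2
    exact Subtype.ext (mul_left_cancel e2)
  refine (Nat.card_le_card_of_injective g hg).trans ?_
  rw [Nat.card_prod, Nat.card_eq_fintype_card (α := ↥J), Fintype.card_coe]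
  refine Nat.mul_le_mul_right _ (Finset.card_le_card fun i hi => ?_)
  obtain ⟨a, -, rfl⟩ := Finset.mem_image.mp hi
  exact hI a a.2 _ (hidx a) (hrep a)

/-- The three possibilities. -/
theorem classify {A : Subgroup G} (hAS : A ≤ C.S) (hsq : ∀ a ∈ A, a * a ∈ C.E)
    (hcen : ∀ a ∈ A, ∀ e ∈ A ⊓ C.E, Commute a e) (hcard : 2 ^ 10 ≤ Nat.card ↥A) :
    ((∀ a ∈ A, ∀ i < 256, RepBy C.E C.π a (elt i) → i ∈ spanL X0.2) ∧ (∀ e ∈ A ⊓ C.E, C.π e ∈ W0) ∧
        64 ≤ Nat.card ↥(A ⊓ C.E)) ∨
      ∃ B, (B = d1B ∨ B = d2B) ∧ Nat.card ↥A ≤ 2 ^ 10 ∧ ∀ x ∈ spanM B, ∃ e ∈ A ⊓ C.E, C.π e = x := by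
  classical
  choose idx hidx hrep huniq using fun a : ↥A => C.exists_idx (hAS a.2)
  have hH : ∀ a : ↥A, (a : G) ∈ centralizer ({z} : Set G) := fun a => (C.mem_S.mp (hAS a.2)).1
  have hmul : ∀ a b : ↥A, idx (a * b) = mul8 (idx a) (idx b) := fun a b =>
    (huniq _ _ (mul8_lt _ _) (C.Sset_mul (hidx a) (hidx b) (hH b) (hrep a) (hrep b))).symm
  have hE0 : ∀ a : ↥A, (a : G) ∈ C.E → idx a = 0 := fun a ha =>
    (huniq a 0 (by norm_num) (elt_zero ▸ C.rep_E ha)).symm
  have hone : idx 1 = 0 := hE0 1 (one_mem _)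
  have hsq0 : ∀ a : ↥A, mul8 (idx a) (idx a) = 0 := fun a => by rw [← hmul]; exact hE0 _ (hsq a a.2)
  haveI : Fintype ↥A := Fintype.ofFinite _
  set I : Finset ℕ := Finset.univ.image idx with hI
  have hI0 : 0 ∈ I := Finset.mem_image.mpr ⟨1, Finset.mem_univ _, hone⟩
  have hImem : ∀ a : ↥A, idx a ∈ I := fun a => Finset.mem_image.mpr ⟨a, Finset.mem_univ _, rfl⟩
  have hAcard : Nat.card ↥A ≤ I.card * Nat.card ↥(A ⊓ C.E) := C.card_le_index hAS I fun a ha i hi hr => by
    rw [huniq ⟨a, ha⟩ i hi hr]; exact hImem _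
  have hc1 : ∀ u ∈ I, ∀ v ∈ I, mul8 u v ∈ I := by
    intro u hu v hv
    obtain ⟨a, -, rfl⟩ := Finset.mem_image.mp hu
    obtain ⟨b, -, rfl⟩ := Finset.mem_image.mp hv
    rw [← hmul]; exact hImem _
  have hc2 : ∀ u ∈ I, ∀ v ∈ I, mul8 u v = mul8 v u := by
    intro u hu v hv
    obtain ⟨a, -, rfl⟩ := Finset.mem_image.mp hu
    obtain ⟨b, -, rfl⟩ := Finset.mem_image.mp hv
    have h1 : ((a * b : ↥A) : G)⁻¹ * ((b * a : ↥A) : G) ∈ C.E := by
      have haE := C.conj_mem (hH a) (hsq b b.2)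
      have h := mul_mem (hsq _ (A.inv_mem (A.mul_mem a.2 b.2))) (mul_mem haE (hsq a a.2))
      have e : ((a * b : ↥A) : G)⁻¹ * ((b * a : ↥A) : G) =
          ((a : G) * b)⁻¹ * ((a : G) * b)⁻¹ * ((a : G) * ((b : G) * b) * (a : G)⁻¹ * ((a : G) * a)) := by
        simp only [Subgroup.coe_mul, mul_inv_rev]
        group
      rw [e]; exact h
    have h2 : idx (b * a) = idx (a * b) := by
      refine (huniq (b * a) _ (hidx _) fun q hq => ?_).symm
      have h3 := C.rep_mul (C.le h1) (hrep (a * b)) (C.rep_E h1) q hq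
      rw [mul_inv_cancel_left, mv_mm, mv_idM (C.π_lt q)] at h3
      exact h3
    rw [← hmul, ← hmul, h2]
  have hIinv : ∀ u ∈ I, u ≠ 0 → u ∈ Data.invS := by
    intro u hu hu0
    obtain ⟨a, -, rfl⟩ := Finset.mem_image.mp hu
    have h := List.all_eq_true.mp inv_complete (idx a) (List.mem_range.mpr (hidx a))
    simp only [Bool.or_eq_true, beq_iff_eq, Bool.not_eq_true', beq_eq_false_iff_ne, List.contains_iff_mem] at h
    refine (h.resolve_left ?_)
    rintro (h | h)
    · exact hu0 h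
    · exact h (hsq0 a)
  -- the intersection with the extraspecial group
  set D : Finset ℕ := ((Finset.range 4096).filter fun x => ∃ a ∈ A ⊓ C.E, C.π a = x) with hD
  have hDmem : ∀ a ∈ A ⊓ C.E, C.π a ∈ D := fun a ha =>
    Finset.mem_filter.mpr ⟨Finset.mem_range.mpr (C.π_lt a), a, ha, rfl⟩
  have hDfix : ∀ x ∈ D, ∀ i ∈ I, mv (elt i) x = x := by
    intro x hx i hi
    obtain ⟨-, a, ha, rfl⟩ := Finset.mem_filter.mp hx
    obtain ⟨b, -, rfl⟩ := Finset.mem_image.mp hi
    rw [← hrep b a ha.2, (hcen _ b.2 a ha).eq, mul_inv_cancel_right]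
  have hD64 : D.card ≤ 64 := by
    refine isotropic_card (fun d hd => Finset.mem_range.mp (Finset.mem_filter.mp hd).1) ?_ ?_ ?_
    · exact C.π_one ▸ hDmem 1 (one_mem _)
    · intro a ha b hb
      obtain ⟨-, u, hu, rfl⟩ := Finset.mem_filter.mp ha
      obtain ⟨-, v, hv, rfl⟩ := Finset.mem_filter.mp hb
      rw [← C.π_mul u hu.2 v hv.2]
      exact hDmem _ (mul_mem hu hv)
    · intro a ha b hb
      obtain ⟨-, u, hu, rfl⟩ := Finset.mem_filter.mp ha
      obtain ⟨-, v, hv, rfl⟩ := Finset.mem_filter.mp hb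
      exact (C.π_comm u hu.2 v hv.2).mp (hcen u hu.1 v hv)
  have hDc := C.card_inf_le D hDmem
  obtain ⟨m1, m2, m3, m4, m5⟩ := masks_ok
  have hI8 : 8 ≤ I.card := by
    by_contra hle
    have := Nat.mul_le_mul (show I.card ≤ 7 by omega) (hDc.trans (Nat.mul_le_mul_left 2 hD64))
    omega
  have i1 : InI ab1 I := by
    obtain ⟨x, hxI, hx0⟩ : ∃ x ∈ I, x ≠ 0 := by
      by_contra! h
      have := Finset.card_le_card (show I ⊆ {0} from fun x hx => Finset.mem_singleton.mpr (h x hx))
      simp at this; omega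
    have h := List.all_eq_true.mp level_one x (hIinv x hxI hx0)
    simp only [List.any_eq_true, beq_iff_eq] at h
    obtain ⟨A', hA', he⟩ := h
    refine ⟨A', hA', fun y hy => ?_⟩
    obtain ⟨hm1', hm2', -⟩ := levelMask_spec m1 hA'
    have h1 := (maskL_testBit _ y).mpr (hm2' y hy)
    rw [hm1', he] at h1
    exact spanL_mem (I := (I : Set ℕ)) hI0 hc1 [x] (fun u hu => (List.mem_singleton.mp hu).symm ▸ hxI) y
      ((maskL_testBit _ y).mp h1)
  have i2 := next_step level_two m1 m2 hI0 hc1 hc2 hIinv i1 (by norm_num; omega)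
  have i3 := next_step level_three m2 m3 hI0 hc1 hc2 hIinv i2 (by norm_num; omega)
  have hE64 : I.card ≤ 16 → 64 ≤ Nat.card ↥(A ⊓ C.E) := fun h => by
    have := (hcard.trans hAcard).trans (Nat.mul_le_mul_right _ h)
    omega
  have hsmall : ∀ {B : List ℕ}, D ⊆ (spanM B).toFinset → B.length ≤ 4 → D.card ≤ 16 := fun {B} hsub h => by
    refine (Finset.card_le_card hsub).trans ((List.toFinset_card_le _).trans ?_)
    rw [spanM, List.length_map, List.length_range]
    exact (Nat.pow_le_pow_right two_pos h).trans (by norm_num)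
  by_cases hI9 : 8 < I.card
  · left
    have i4 := next_step level_four m3 m4 hI0 hc1 hc2 hIinv i3 (by norm_num; omega)
    have hI32 : I.card ≤ 32 := by
      by_contra hgt
      have i5 := next_step level_five m4 m5 hI0 hc1 hc2 hIinv i4 (by norm_num; omega)
      exact next_empty (next_step level_six m5 rfl hI0 hc1 hc2 hIinv i5 (by norm_num; omega))
    have hI16 : I.card ≤ 16 := by
      by_contra hgt
      obtain ⟨A5, hA5, hA5I⟩ := next_step level_five m4 m5 hI0 hc1 hc2 hIinv i4 (by norm_num; omega)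
      obtain ⟨i, hi, rfl⟩ := List.getElem_of_mem hA5
      have h := fix_five
      simp only [Bool.and_eq_true, List.all_eq_true, List.mem_range, decide_eq_true_eq] at h
      obtain ⟨hk, hlen⟩ := h.2 i hi
      rw [List.getD_eq_getElem _ _ hi] at hk
      have hsub : D ⊆ (Data.fixC5.getD i ([], [], [])).2.2.toFinset := fun x hx => List.mem_toFinset.mpr
        (kerCert_sound (stackL_xor _) hk x (Finset.mem_range.mp (Finset.mem_filter.mp hx).1)
          (stackL_fix _ _ fun j hj => hDfix x hx j (hA5I j hj)))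
      have hD2 : D.card ≤ 2 := (Finset.card_le_card hsub).trans ((List.toFinset_card_le _).trans hlen)
      have := (hcard.trans hAcard).trans (Nat.mul_le_mul hI32 (hDc.trans (Nat.mul_le_mul_left 2 hD2)))
      omega
    obtain ⟨A4, hA4, hA4I⟩ := i4
    obtain ⟨i, hi, rfl⟩ := List.getElem_of_mem hA4
    have h := fix_four
    simp only [Bool.and_eq_true, List.all_eq_true, List.mem_range, Bool.or_eq_true, decide_eq_true_eq] at h
    obtain ⟨hk, hor⟩ := h.2 i hi
    rw [List.getD_eq_getElem _ _ hi] at hk hor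
    have hsub : D ⊆ (Data.fixC4.getD i ([], [], [])).2.2.toFinset := fun x hx => List.mem_toFinset.mpr
      (kerCert_sound (stackL_xor _) hk x (Finset.mem_range.mp (Finset.mem_filter.mp hx).1)
        (stackL_fix _ _ fun j hj => hDfix x hx j (hA4I j hj)))
    rcases hor with ⟨hX, hW⟩ | h8
    · have hspan : ∀ u ∈ spanL X0.2, u ∈ I := spanL_mem (I := (I : Set ℕ)) hI0 hc1 _ (by rw [← hX]; exact hA4I)
      have h16 : (spanL X0.2).toFinset.card = 16 := by decide +kernel
      have hIeq : (spanL X0.2).toFinset = I := Finset.eq_of_subset_of_card_le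
        (fun u hu => hspan u (List.mem_toFinset.mp hu)) (by omega)
      refine ⟨fun a ha i hi hr => ?_, fun e he => ?_, hE64 hI16⟩
      · rw [huniq ⟨a, ha⟩ i hi hr]
        exact List.mem_toFinset.mp (hIeq.symm ▸ hImem _)
      · have := List.mem_toFinset.mp (hsub (hDmem e he))
        rwa [hW] at this
    · exfalso
      have hD8 : D.card ≤ 8 := (Finset.card_le_card hsub).trans ((List.toFinset_card_le _).trans h8)
      have := (hcard.trans hAcard).trans (Nat.mul_le_mul hI16 (hDc.trans (Nat.mul_le_mul_left 2 hD8)))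
      omega
  · have hIe : I.card = 8 := by omega
    have hA128 : 64 ≤ D.card := by
      have := (hcard.trans hAcard).trans (Nat.mul_le_mul hIe.le hDc)
      omega
    obtain ⟨A3, hA3, hA3I⟩ := i3
    obtain ⟨i, hi, rfl⟩ := List.getElem_of_mem hA3
    have h := Ten.cand_three
    simp only [Ten.entOK, Bool.and_eq_true, List.all_eq_true, List.mem_range, Bool.or_eq_true, decide_eq_true_eq,
      List.contains_iff_mem] at h
    obtain ⟨hk, hor⟩ := h.2 i hi
    rw [List.getD_eq_getElem _ _ hi] at hk hor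
    have hsub : D ⊆ (spanM (fixC3.getD i ([], [], [])).2.2).toFinset := fun x hx => List.mem_toFinset.mpr
      (kerB_sound hk (Finset.mem_range.mp (Finset.mem_filter.mp hx).1) fun j hj => hDfix x hx j (hA3I j hj))
    have hA10 : Nat.card ↥A ≤ 2 ^ 10 := hAcard.trans ((Nat.mul_le_mul hIe.le (hDc.trans (Nat.mul_le_mul_left 2 hD64))).trans
      (by norm_num))
    have hfull : ∀ {B : List ℕ}, D ⊆ (spanM B).toFinset → B.length = 6 → ∀ x ∈ spanM B, ∃ e ∈ A ⊓ C.E, C.π e = x := by
      intro B hsub hl x hx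
      have he : D = (spanM B).toFinset := Finset.eq_of_subset_of_card_le hsub (by
        refine ((List.toFinset_card_le _).trans (le_of_eq ?_)).trans hA128
        rw [spanM, List.length_map, List.length_range, hl]
        norm_num)
      exact (Finset.mem_filter.mp (he ▸ List.mem_toFinset.mpr hx : x ∈ D)).2
    rcases hor with ((h4 | ⟨hW, hX⟩) | ⟨h1, -⟩) | h2
    · exfalso
      have := hsmall hsub h4
      omega
    · left
      rw [hW] at hsub
      obtain ⟨-, -, h8⟩ := levelMask_spec m3 (List.getElem_mem hi)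
      have hspan : ∀ u ∈ spanL (ab3[i]).2, u ∈ I := spanL_mem (I := (I : Set ℕ)) hI0 hc1 _ hA3I
      have hIeq : (spanL (ab3[i]).2).toFinset = I := Finset.eq_of_subset_of_card_le
        (fun u hu => hspan u (List.mem_toFinset.mp hu)) (by rw [h8]; omega)
      have hX0c : ∀ a ∈ spanL X0.2, ∀ b ∈ spanL X0.2, mul8 a b ∈ spanL X0.2 := by decide +kernel
      refine ⟨fun a ha j hj hr => ?_, fun e he => ?_, hE64 (by omega)⟩
      · have hj' : j ∈ (spanL (ab3[i]).2).toFinset := by rw [hIeq, huniq ⟨a, ha⟩ j hj hr]; exact hImem _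
        exact spanL_mem (I := {u | u ∈ spanL X0.2}) (show (0 : ℕ) ∈ spanL X0.2 by decide +kernel) hX0c _ hX j
          (List.mem_toFinset.mp hj')
      · have hx := List.mem_toFinset.mp (hsub (hDmem e he))
        have hw : ∀ x ∈ spanM Data.w0B, x ∈ W0 := by decide +kernel
        exact hw _ hx
    · exact Or.inr ⟨d1B, Or.inl rfl, hA10, hfull (h1 ▸ hsub) Ten.d1_ok.1⟩
    · exact Or.inr ⟨d2B, Or.inr rfl, hA10, hfull (h2 ▸ hsub) Ten.swap_ok.2.1⟩

end Ctx

end Cfsg.Lib.JankoFour
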