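import Cfsg.Agent.JankoFour.TenGroup.Count

/-!
A complement to the subgroup of order two to the tenth in a Sylow 2-subgroup of its normaliser.
-/

set_option autoImplicit false
set_option maxRecDepth 100000
set_option maxHeartbeats 1000000
set_option linter.style.haveILetI false
set_option linter.unusedSectionVars false

namespace Cfsg.Lib.JankoFour

open Subgroup
open TenData (d1B iIdx tIdx compB jGen)
open Ten (spanM jR jEl)

universe u

variable {G : Type u} [Group G] [Finite G]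

theorem comp_spec {x : ℕ} (hx : x ∈ spanX compB) : x < 4096 ∧ qB x = false ∧ mv Data.OM x ∈ spanX compB ∧
    (x ∈ spanM d1B → x = 0) := by
  have h := Ten.comp_ok.1
  simp only [List.all_eq_true, Bool.and_eq_true, decide_eq_true_eq, Bool.not_eq_true', List.contains_iff_mem,
    Bool.or_eq_true, beq_iff_eq, List.contains_eq_mem, decide_eq_false_iff_not] at h
  obtain ⟨⟨⟨h1, h2⟩, h3⟩, h4⟩ := h x hx
  exact ⟨h1, h2, h3, fun hm => h4.resolve_right fun hn => hn hm⟩

theorem comp_pair {x y : ℕ} (hx : x ∈ spanX compB) (hy : y ∈ spanX compB) :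
    pB x y = false ∧ x ^^^ y ∈ spanX compB := by
  have h := Ten.comp_ok.2.1
  simp only [List.all_eq_true, Bool.and_eq_true, Bool.not_eq_true', List.contains_iff_mem] at h
  exact h x hx y hy

theorem jGen_spec {g : ℕ} (hg : g ∈ jGen) : g < 256 ∧ g ≠ 0 ∧ mul8 g g = 0 ∧ g ∈ tIdx ∧
    ∀ x ∈ spanX compB, mv (elt g) x ∈ spanX compB := by
  have h := Ten.comp_ok.2.2.2.2
  simp only [List.all_eq_true, Bool.and_eq_true, decide_eq_true_eq, beq_iff_eq, bne_iff_ne,
    List.contains_iff_mem] at h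
  obtain ⟨⟨⟨⟨h1, h2⟩, h3⟩, h4⟩, h5⟩ := h g hg
  exact ⟨h1, h2, h3, h4, h5⟩

theorem jEl_mul (k : ℕ) (e d : Bool) : ∀ r, r = [0, jR, mul8 jR jR, mul8 (mul8 jR jR) jR].getD k 0 →
    jEl k e d = mul8 (mul8 r (if e then jGen.getD 0 0 else 0)) (if d then jGen.getD 2 0 else 0) := by
  intro r hr
  rw [hr]; rfl

namespace Ctx

variable {z : G} {P : Subgroup G} (C : Ctx z P)

include C

/-- The invariant complement in the extraspecial group. -/
def E10 : Subgroup G where
  carrier := {x | ∃ u ∈ C.E, C.π u ∈ spanX compB ∧ x = C.hh u}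
  one_mem' := ⟨1, one_mem _, by rw [C.π_one]; exact zero_mem_spanX _, by rw [hh]; group⟩
  mul_mem' := by
    rintro _ _ ⟨u, hu, hu', rfl⟩ ⟨v, hv, hv', rfl⟩
    refine ⟨u * v, mul_mem hu hv, by rw [C.π_mul u hu v hv]; exact (comp_pair hu' hv').2, ?_⟩
    have hc : Commute v (C.p * u * C.p⁻¹) := (C.π_comm v hv _ (C.conj_mem C.pH hu)).mpr (by
      rw [C.rep_p u hu]; exact (comp_pair hv' (comp_spec hu').2.2.1).1)
    show u * (C.p * u * C.p⁻¹) * (v * (C.p * v * C.p⁻¹)) = u * v * (C.p * (u * v) * C.p⁻¹)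
    calc u * (C.p * u * C.p⁻¹) * (v * (C.p * v * C.p⁻¹))
        = u * ((C.p * u * C.p⁻¹) * v) * (C.p * v * C.p⁻¹) := by group
      _ = u * (v * (C.p * u * C.p⁻¹)) * (C.p * v * C.p⁻¹) := by rw [hc.eq]
      _ = _ := by group
  inv_mem' := by
    rintro _ ⟨u, hu, hu', rfl⟩
    refine ⟨u⁻¹, inv_mem hu, by rwa [C.π_inv hu], ?_⟩
    have hc : Commute u (C.p * u * C.p⁻¹) := (C.π_comm u hu _ (C.conj_mem C.pH hu)).mpr (by
      rw [C.rep_p u hu]; exact (comp_pair hu' (comp_spec hu').2.2.1).1)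
    show (u * (C.p * u * C.p⁻¹))⁻¹ = u⁻¹ * (C.p * u⁻¹ * C.p⁻¹)
    rw [hc.eq]; group

theorem E10_le : C.E10 ≤ C.E := by
  rintro _ ⟨u, hu, -, rfl⟩
  exact mul_mem hu (C.conj_mem C.pH hu)

theorem E10_inf {x : G} (hx : x ∈ C.E10) (h : C.π x ∈ spanM d1B) : x = 1 := by
  obtain ⟨u, hu, hu', rfl⟩ := hx
  rw [C.hh_π hu] at h
  have h0 := (comp_spec (comp_pair hu' (comp_spec hu').2.2.1).2).2.2.2 h
  refine C.hh_z hu ?_
  have e := Nat.xor_eq_zero_iff.mp h0
  have e2 := OM_sum (C.π_lt u)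
  rw [← e, ← e, Nat.xor_self] at e2
  exact e2.symm

theorem E10_conj {g : G} {i : ℕ} (hi : i ∈ jGen) (hg : C.Lift g i) {x : G} (hx : x ∈ C.E10) :
    g * x * g⁻¹ ∈ C.E10 := by
  obtain ⟨u, hu, hu', rfl⟩ := hx
  have hgu : C.π (g * u * g⁻¹) ∈ spanX compB := by rw [hg.2.2 u hu]; exact (jGen_spec hi).2.2.2.2 _ hu'
  rcases C.hh_conj hg.1 hg.2.2 hu (comp_spec hgu).2.1 with ⟨-, e⟩ | ⟨-, -, e⟩
  · exact ⟨_, C.conj_mem hg.1.1 hu, hgu, e⟩
  · have hw : C.p⁻¹ * (g * u * g⁻¹) * C.p ∈ C.E := by simpa using C.conj_mem (inv_mem C.pH) (C.conj_mem hg.1.1 hu)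
    refine ⟨_, hw, ?_, e⟩
    have e2 : mv Data.OM (C.π (C.p⁻¹ * (g * u * g⁻¹) * C.p)) = C.π (g * u * g⁻¹) := by
      rw [← C.rep_p _ hw]; congr 1; group
    have h3 : ∀ y < 4096, mv Data.OM (mv Data.OM (mv Data.OM y)) = y :=
      lin_ext (f := fun x => mv Data.OM (mv Data.OM (mv Data.OM x))) (g := id) (· ^^^ ·) 12
        (fun a b => by simp only [mv_xor]) (fun a b => rfl) (by simp [mv_zero]) (by decide +kernel)
    rw [← h3 _ (C.π_lt _), e2]
    exact (comp_spec (comp_spec hgu).2.2.1).2.2.1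

/-- A complement in a Sylow 2-subgroup of the normaliser. -/
theorem exists_partial_complement [IsSimpleGroup G] (hG : ¬ IsMulCommutative G) :
    ∃ K : Subgroup G, K ≤ C.S ⊓ normalizer (C.A10 : Set G) ∧ K ⊓ C.A10 = ⊥ ∧ 1024 ≤ Nat.card ↥K := by
  classical
  obtain ⟨hsep, hnd⟩ := Ten.j_gen.2
  have hj := Ten.j_gen.1
  simp only [Bool.and_eq_true, beq_iff_eq, bne_iff_ne] at hj
  obtain ⟨⟨⟨⟨⟨iac, ibc⟩, nac⟩, nbc⟩, nrr⟩, irr⟩ := hj
  simp only [List.all_eq_true, Bool.or_eq_true, Bool.not_eq_true', beq_iff_eq, List.contains_eq_mem,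
    decide_eq_false_iff_not] at hsep
  have hmem3 : jGen.getD 0 0 ∈ jGen ∧ jGen.getD 1 0 ∈ jGen ∧ jGen.getD 2 0 ∈ jGen := by decide +kernel
  obtain ⟨la, na, ia, ta, -⟩ := jGen_spec hmem3.1
  obtain ⟨lb, nb, ib, tb, -⟩ := jGen_spec hmem3.2.1
  obtain ⟨lc, nc, ic, tc, -⟩ := jGen_spec hmem3.2.2
  obtain ⟨a, ha⟩ := C.exists_lift la
  obtain ⟨b, hb⟩ := C.exists_lift lb
  obtain ⟨c, hc⟩ := C.exists_lift lc
  have hne : jGen.getD 0 0 ≠ 0 ∧ jGen.getD 1 0 ≠ 0 ∧ jGen.getD 2 0 ≠ 0 ∧ mul8 (jGen.getD 0 0) (jGen.getD 2 0) ≠ 0 ∧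
      mul8 (jGen.getD 1 0) (jGen.getD 2 0) ≠ 0 ∧ mul8 jR jR ≠ 0 := by decide +kernel
  obtain ⟨na, nb, nc, nac, nbc, nrr⟩ := hne
  have aa := C.lift_involution hG ha na ia
  have bb := C.lift_involution hG hb nb ib
  have cc := C.lift_involution hG hc nc ic
  have cac := C.comm_of_squares aa cc (C.lift_involution hG (C.lift_mul ha hc) nac iac)
  have cbc := C.comm_of_squares bb cc (C.lift_involution hG (C.lift_mul hb hc) nbc ibc)
  set r := a * b with hr
  have hrl : C.Lift r jR := C.lift_mul ha hb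
  have r4 : r ^ 4 = 1 := by
    rw [show r ^ 4 = r * r * (r * r) by simp [pow_succ, mul_assoc]]
    exact C.lift_involution hG (C.lift_mul hrl hrl) nrr irr
  have har : ∀ k : ℕ, a * r ^ k = r ^ (3 * k) * a := by
    intro k
    induction k with
    | zero => simp
    | succ k ih =>
      have hi : r⁻¹ = r ^ 3 := inv_eq_of_mul_eq_one_right (by rw [← pow_succ']; exact r4)
      have h1 : a * r = r ^ 3 * a := by
        rw [← hi, hr, mul_inv_rev, inv_eq_of_mul_eq_one_right aa, inv_eq_of_mul_eq_one_right bb, ← mul_assoc, aa,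
          one_mul, mul_assoc, aa, mul_one]
      rw [pow_succ, ← mul_assoc, ih, mul_assoc, h1, ← mul_assoc, ← pow_add]
      rfl
  have hcr : Commute c r := cac.symm.mul_right cbc.symm
  have hbr : b = a * r := by rw [hr, ← mul_assoc, aa, one_mul]
  let word : ℕ → Bool → Bool → G := fun k e d => r ^ k * (if e then a else 1) * (if d then c else 1)
  have hone : C.Lift (1 : G) 0 := ⟨C.np_one, by norm_num, elt_zero ▸ C.rep_one⟩
  have hword : ∀ k < 4, ∀ e d, C.Lift (word k e d) (jEl k e d) := by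
    intro k hk e d
    have h1 : C.Lift (r ^ k) ([0, jR, mul8 jR jR, mul8 (mul8 jR jR) jR].getD k 0) := by
      rcases (show k = 0 ∨ k = 1 ∨ k = 2 ∨ k = 3 by omega) with rfl | rfl | rfl | rfl
      · rw [pow_zero]; exact hone
      · rw [pow_one]; exact hrl
      · rw [pow_two]; exact C.lift_mul hrl hrl
      · rw [pow_succ, pow_two]; exact C.lift_mul (C.lift_mul hrl hrl) hrl
    rw [jEl_mul k e d _ rfl]
    refine C.lift_mul (C.lift_mul h1 ?_) ?_
    · cases e
      exacts [hone, ha]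
    · cases d
      exacts [hone, hc]
  let Y : Subgroup G := Subgroup.closure ({a, b, c} : Set G)
  have hY : ∀ y ∈ Y, ∃ k < 4, ∃ e d, y = word k e d := by
    have hmod : ∀ k : ℕ, r ^ k = r ^ (k % 4) := fun k => by
      conv_lhs => rw [← Nat.div_add_mod k 4, pow_add, pow_mul, r4, one_pow, one_mul]
    have hA : ∀ k e d, ∃ k' < 4, ∃ e' d', a * word k e d = word k' e' d' := by
      intro k e d
      refine ⟨3 * k % 4, Nat.mod_lt _ (by norm_num), !e, d, ?_⟩
      show a * (r ^ k * _ * _) = r ^ (3 * k % 4) * _ * _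
      rw [← hmod, ← mul_assoc, ← mul_assoc, har]
      cases e <;> simp [mul_assoc, aa, ← mul_assoc a a]
    intro y hy
    have hfin : ∀ g ∈ ({a, b, c} : Set G), g⁻¹ = g := by
      rintro g (rfl | rfl | rfl)
      exacts [inv_eq_of_mul_eq_one_right aa, inv_eq_of_mul_eq_one_right bb, inv_eq_of_mul_eq_one_right cc]
    have hstep : ∀ g ∈ ({a, b, c} : Set G), ∀ k < 4, ∀ e d, ∃ k' < 4, ∃ e' d', g * word k e d = word k' e' d' := by
      rintro g hg k hk e d
      rcases hg with rfl | rfl | rfl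
      · exact hA k e d
      · obtain ⟨k', hk', e', d', h⟩ := hA ((k + 1) % 4) e d
        refine ⟨k', hk', e', d', ?_⟩
        rw [← h, hbr]
        show a * r * (r ^ k * _ * _) = a * (r ^ ((k + 1) % 4) * _ * _)
        rw [← hmod, pow_succ']; group
      · refine ⟨k, hk, e, !d, ?_⟩
        show g * (r ^ k * _ * _) = r ^ k * _ * _
        have hcg : Commute g (r ^ k * if e then a else 1) := by
          refine (hcr.pow_right k).mul_right ?_
          cases e
          exacts [Commute.one_right _, cac.symm]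
        rw [← mul_assoc, hcg.eq]
        cases d <;> simp [mul_assoc, cc]
    induction hy using Subgroup.closure_induction_left with
    | one => exact ⟨0, by norm_num, false, false, by simp [word]⟩
    | mul_left g hg y _ ih =>
      obtain ⟨k, hk, e, d, rfl⟩ := ih
      exact hstep g hg k hk e d
    | inv_mul_cancel g hg y _ ih =>
      obtain ⟨k, hk, e, d, rfl⟩ := ih
      rw [hfin g hg]
      exact hstep g hg k hk e d
  have hYS : Y ≤ C.S := by
    rw [Subgroup.closure_le]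
    rintro g (rfl | rfl | rfl)
    exacts [C.mem_S.mpr ⟨ha.1.1, _, ha.2.1, ha.2.2⟩, C.mem_S.mpr ⟨hb.1.1, _, hb.2.1, hb.2.2⟩,
      C.mem_S.mpr ⟨hc.1.1, _, hc.2.1, hc.2.2⟩]
  have hYN : Y ≤ normalizer (C.E10 : Set G) := by
    rw [Subgroup.closure_le]
    rintro g (rfl | rfl | rfl)
    exacts [Subgroup.mem_normalizer_fintype fun x hx => C.E10_conj hmem3.1 ha hx,
      Subgroup.mem_normalizer_fintype fun x hx => C.E10_conj hmem3.2.1 hb hx,
      Subgroup.mem_normalizer_fintype fun x hx => C.E10_conj hmem3.2.2 hc hx]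
  have hYA : Y ≤ normalizer (C.A10 : Set G) := by
    rw [Subgroup.closure_le]
    rintro g (rfl | rfl | rfl)
    exacts [C.t_mem_N ta ha.1.1 ha.2.2, C.t_mem_N tb hb.1.1 hb.2.2, C.t_mem_N tc hc.1.1 hc.2.2]
  refine ⟨C.E10 ⊔ Y, sup_le (le_inf (C.E10_le.trans C.E_le_S) fun e he => C.E_le_N (C.E10_le he)) (le_inf hYS hYA),
    (eq_bot_iff_forall _).mpr ?_, ?_⟩
  · rintro x ⟨hx, hxA⟩
    replace hx : x ∈ ((C.E10 ⊔ Y : Subgroup G) : Set G) := hx
    rw [coe_mul_of_right_le_normalizer_left C.E10 Y hYN] at hx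
    obtain ⟨e, he, y, hy, rfl⟩ := Set.mem_mul.mp hx
    obtain ⟨k, hk, eb, db, rfl⟩ := hY y hy
    obtain ⟨fr, hfr⟩ := C.exists_frame
    obtain ⟨m, hm, hme⟩ := C.coord_surj hG hfr hxA
    have hr := hme ▸ C.coord_rep hfr hm
    have hL := hword k hk eb db
    have hr' : RepBy C.E C.π (e * word k eb db) (elt (jEl k eb db)) := fun q hq => by
      rw [C.rep_mul hL.1.1 (C.rep_E (C.E10_le he)) hL.2.2 q hq, mv_mm, mv_idM (mv_lt (n := 12) (elt_lt _) _)]
    have hie := elt_inj hL.2.1 (iIdx_spec (show m / 128 < 8 by omega)).1 (C.rep_unique hr' hr)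
    have hmem : (k, eb, db) ∈ yExp := by
      rcases (show k = 0 ∨ k = 1 ∨ k = 2 ∨ k = 3 by omega) with rfl | rfl | rfl | rfl <;>
        cases eb <;> cases db <;> decide
    have hl : iIdx.length = 8 := rfl
    have hin : jEl k eb db ∈ iIdx := by
      rw [hie, List.getD_eq_getElem _ _ (by omega)]
      exact List.getElem_mem _
    have h0 := (hsep _ hmem).resolve_left fun h => h hin
    simp only [Prod.mk.injEq] at h0
    obtain ⟨rfl, rfl, rfl⟩ := h0
    have hw1 : word 0 false false = 1 := by simp [word]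
    rw [hw1, mul_one] at hxA ⊢
    exact C.E10_inf he (C.A10_inf_E hxA (C.E10_le he)).2
  · choose sec hsecE hsec using fun v : ↥(spanX compB).toFinset => C.π_surj v.1 (comp_spec (List.mem_toFinset.mp v.2)).1
    have hexp : ∀ t : ↥yExp.toFinset, t.1.1 < 4 := fun t => by
      have h : ∀ t ∈ yExp, t.1 < 4 := by decide
      exact h t.1 (List.mem_toFinset.mp t.2)
    have hin : ∀ t : ↥yExp.toFinset, word t.1.1 t.1.2.1 t.1.2.2 ∈ Y := fun t => by
      refine mul_mem (mul_mem (pow_mem (mul_mem (subset_closure (by simp)) (subset_closure (by simp))) _) ?_) ?_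
      · split
        exacts [subset_closure (by simp), one_mem _]
      · split
        exacts [subset_closure (by simp), one_mem _]
    let f : ↥(spanX compB).toFinset × ↥yExp.toFinset → ↥(C.E10 ⊔ Y) := fun t =>
      ⟨C.hh (sec t.1) * word t.2.1.1 t.2.1.2.1 t.2.1.2.2, mul_mem_sup ⟨_, hsecE _, by
        rw [hsec]; exact List.mem_toFinset.mp t.1.2, rfl⟩ (hin _)⟩
    have hf : Function.Injective f := by
      rintro ⟨v, t⟩ ⟨v', t'⟩ e
      have e' : C.hh (sec v) * word t.1.1 t.1.2.1 t.1.2.2 = C.hh (sec v') * word t'.1.1 t'.1.2.1 t'.1.2.2 :=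
        congrArg Subtype.val e
      have hrep : ∀ (v : ↥(spanX compB).toFinset) (t : ↥yExp.toFinset),
          RepBy C.E C.π (C.hh (sec v) * word t.1.1 t.1.2.1 t.1.2.2) (elt (jEl t.1.1 t.1.2.1 t.1.2.2)) := fun v t q hq => by
        have hL := hword _ (hexp t) t.1.2.1 t.1.2.2
        rw [C.rep_mul hL.1.1 (C.rep_E (show C.hh (sec v) ∈ C.E from mul_mem (hsecE v) (C.conj_mem C.pH (hsecE v)))) hL.2.2 q hq, mv_mm,
          mv_idM (mv_lt (n := 12) (elt_lt _) _)]
      have hidx := elt_inj (hword _ (hexp t) t.1.2.1 t.1.2.2).2.1 (hword _ (hexp t') t'.1.2.1 t'.1.2.2).2.1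
        (C.rep_unique (hrep v t) (e' ▸ hrep v' t'))
      have ht : t = t' := Subtype.ext (List.inj_on_of_nodup_map hnd (List.mem_toFinset.mp t.2)
        (List.mem_toFinset.mp t'.2) hidx)
      subst ht
      have e2 := congrArg C.π (mul_right_cancel e')
      rw [C.hh_π (hsecE v), C.hh_π (hsecE v'), hsec, hsec] at e2
      have hv : v = v' := Subtype.ext (by
        have hl := (comp_spec (List.mem_toFinset.mp v.2)).1
        have hl' := (comp_spec (List.mem_toFinset.mp v'.2)).1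
        have e3 := congrArg (mv Data.OM) e2
        simp only [mv_xor] at e3
        rw [Nat.xor_comm (mv Data.OM v.1), Nat.xor_comm (mv Data.OM v'.1), OM_sum hl, OM_sum hl'] at e3
        exact e3)
      subst hv
      rfl
    refine le_trans (le_of_eq ?_) (Nat.card_le_card_of_injective f hf)
    rw [Nat.card_prod, Nat.card_eq_fintype_card, Nat.card_eq_fintype_card (α := ↥yExp.toFinset), Fintype.card_coe,
      Fintype.card_coe]
    decide +kernel

end Ctx

end Cfsg.Lib.JankoFour
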