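import Mathlib.GroupTheory.PGroup
import Mathlib.GroupTheory.Perm.Cycle.Type

/-!
Primes dividing the order of a group of automorphisms of a group of order a power of two.
-/

set_option autoImplicit false

namespace Cfsg.Lib.JankoFour.Ten

open Subgroup

theorem prime_of_aut {A : Type*} [Group A] [Finite A] {n : ℕ} (hA : Nat.card A = 2 ^ n) {X : Subgroup (MulAut A)}
    {p : ℕ} (hp : p.Prime) (hp2 : p ≠ 2) (hd : p ∣ Nat.card ↥X) : ∃ k, 1 ≤ k ∧ k ≤ n ∧ (2 ^ k) % p = 1 := by
  classical
  haveI := Fact.mk hp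
  haveI : Finite (MulAut A) := Finite.of_injective (fun e : MulAut A => (e : A → A)) DFunLike.coe_injective
  obtain ⟨⟨σ, hσm⟩, hσ⟩ := exists_prime_orderOf_dvd_card' (G := ↥X) p hd
  rw [Subgroup.orderOf_mk] at hσ
  let F : Subgroup A :=
    { carrier := {a | σ a = a}
      one_mem' := map_one σ
      mul_mem' := fun {a b} ha hb => by
        show σ (a * b) = a * b
        rw [map_mul, show σ a = a from ha, show σ b = b from hb]
      inv_mem' := fun {a} ha => by
        show σ a⁻¹ = a⁻¹
        rw [map_inv, show σ a = a from ha] }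
  obtain ⟨k, hk, hFk⟩ := (Nat.dvd_prime_pow Nat.prime_two).mp (hA ▸ Subgroup.card_subgroup_dvd_card F)
  have hk' : k ≠ n := fun e => by
    have h : F = ⊤ := Subgroup.eq_top_of_card_eq F (by rw [hFk, hA, e])
    have h1 : σ = 1 := MulEquiv.ext fun a => (h ▸ Subgroup.mem_top a : a ∈ F)
    rw [h1, orderOf_one] at hσ
    exact hp.ne_one hσ.symm
  letI : MulAction ↥(zpowers σ) A := MulAction.compHom A ((MulAut.toPerm A).comp (zpowers σ).subtype)
  have hp' : IsPGroup p ↥(zpowers σ) := IsPGroup.of_card (n := 1) (by rw [Nat.card_zpowers, hσ, pow_one])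
  have hfix := hp'.card_modEq_card_fixedPoints A
  have e : MulAction.fixedPoints ↥(zpowers σ) A = (F : Set A) := by
    ext a
    constructor
    · intro h; exact h ⟨σ, mem_zpowers σ⟩
    · rintro h ⟨τ, hτ⟩
      obtain ⟨i, rfl⟩ := mem_zpowers_iff.mp hτ
      show (σ ^ i) a = a
      clear hτ
      induction i using Int.induction_on with
      | zero => simp
      | succ j ih => rw [zpow_add_one, MulAut.mul_apply, show σ a = a from h, ih]
      | pred j ih =>
        have h' : σ⁻¹ a = a := by
          conv_lhs => rw [← show σ a = a from h]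
          exact σ.symm_apply_apply a
        rw [zpow_sub_one, MulAut.mul_apply, h', ih]
  rw [Nat.card_congr (Equiv.setCongr e), SetLike.coe_sort_coe, hFk, hA] at hfix
  have hcop : Nat.Coprime p (2 ^ k) := ((Nat.coprime_primes hp Nat.prime_two).mpr hp2).pow_right k
  have h2 : 2 ^ k * 2 ^ (n - k) ≡ 2 ^ k * 1 [MOD p] := by rwa [mul_one, ← pow_add, show k + (n - k) = n by omega]
  have h3 : 2 ^ (n - k) ≡ 1 [MOD p] := h2.cancel_left_of_coprime hcop
  rw [Nat.ModEq, Nat.mod_eq_of_lt hp.one_lt] at h3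
  exact ⟨n - k, by omega, by omega, h3⟩

end Cfsg.Lib.JankoFour.Ten
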