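import Cfsg.Agent.JankoFour.TenGroup.Normalizer
import Cfsg.Agent.JankoFour.TenGroup.PrimeBound

/-!
The conjugates of the central involution in the subgroup of order two to the tenth: there are sixteen in each of the
seven outer cosets of the inner part.
-/

set_option autoImplicit false
set_option maxRecDepth 100000
set_option maxHeartbeats 1000000
set_option linter.style.haveILetI false
set_option linter.unusedSectionVars false

namespace Cfsg.Lib.JankoFour

open Subgroup
open TenData (d1B iIdx w7)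
open Ten (spanM dPart comms inZf)

universe u

variable {G : Type u} [Group G] [Finite G]

theorem comm_cover : ((List.range 8).all fun n => n == 0 || (comms n).all fun t =>
    (List.range 4096).any fun y => xm (elt (iIdx.getD n 0)) y == t.1) = true := by decide +kernel

theorem inner_forty : ((List.range 128).filter inZf).length = 43 := by decide +kernel

namespace Ctx

variable {z : G} {P : Subgroup G} (C : Ctx z P)

include C

/-- Conjugating an element of an outer coset by an element of the extraspecial group. -/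
theorem conj_lift {n : ℕ} (hn : n < 8) {l : G} (hl : C.Lift l (iIdx.getD n 0)) (hl2 : l * l = 1) {e : G} (he : e ∈ C.E) :
    e * l * e⁻¹ = zb z (pB (mv Data.OM (C.π e)) (xm (elt (iIdx.getD n 0)) (C.π e))) *
      C.sec (xm (elt (iIdx.getD n 0)) (C.π e)) * l := by
  set y := C.π e with hydef
  have hy : y < 4096 := C.π_lt e
  set M := elt (iIdx.getD n 0) with hMdef
  have hMl : ∀ x, mv M x < 4096 := fun x => mv_lt (n := 12) (elt_lt _) x
  obtain ⟨hsE, hsπ⟩ := C.sec_mem hy
  have hOM : ∀ x < 4096, mv M (mv Data.OM x) = mv Data.OM (mv M x) := fun x _ => by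
    rw [← mv_mm, (iIdx_spec hn).2.2.1, mv_mm]
  have hconj := C.sec_conj hl.1.1 (C.lift_comm_p hn hl) hl.2.2 hMl hOM hy
  -- the central involution does not matter
  have hred : e * l * e⁻¹ = C.sec y * l * (C.sec y)⁻¹ := by
    rcases C.π_eq he hsE hsπ.symm with r | r <;> rw [r]
    calc z * C.sec y * l * (z * C.sec y)⁻¹ = z * (C.sec y * l * (C.sec y)⁻¹) * z⁻¹ := by group
      _ = _ := by
        rw [← (C.z_comm (mul_mem (mul_mem (C.le hsE) hl.1.1) (inv_mem (C.le hsE)))).eq, mul_inv_cancel_right]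
  set w := mv M y with hwdef
  obtain ⟨hwE, hwπ⟩ := C.sec_mem (hMl y)
  have hqw : qB w = qB y := by
    have h1 := C.π_sq (C.sec y) hsE
    have h2 := C.π_sq (C.sec w) hwE
    rw [hsπ] at h1
    rw [hwπ] at h2
    have h3 : C.sec w * C.sec w = 1 ↔ C.sec y * C.sec y = 1 := by
      rw [← hconj]
      constructor
      · intro h
        simpa [mul_assoc] using congrArg (fun v => l⁻¹ * v * l) h
      · intro h
        calc l * C.sec y * l⁻¹ * (l * C.sec y * l⁻¹) = l * (C.sec y * C.sec y) * l⁻¹ := by group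
          _ = 1 := by rw [h]; group
    rw [h1, h2] at h3
    cases hq : qB w <;> cases hq' : qB y <;> simp_all
  have hinv : (C.sec w)⁻¹ = zb z (qB w) * C.sec w := by
    refine inv_eq_of_mul_eq_one_left ?_
    rw [mul_assoc]
    cases hq : qB w
    · rw [(C.π_sq _ hwE).mpr (by rw [hwπ, hq])]; exact one_mul _
    · rw [(C.sq_cases hwE).resolve_left fun h => by
        have := (C.π_sq _ hwE).mp h
        rw [hwπ, hq] at this
        exact Bool.noConfusion this]
      exact C.X.zz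
  have hswap : l * (C.sec y)⁻¹ * l⁻¹ = (C.sec w)⁻¹ := by rw [← hconj]; group
  have hli : l⁻¹ = l := inv_eq_of_mul_eq_one_right hl2
  have hxe : xm M y = y ^^^ w := Nat.xor_comm _ _
  have hqy : qB y = pB (mv Data.OM y) y := pB_symm _ hy _ (mv_lt (n := 12) (by decide +kernel) _)
  calc e * l * e⁻¹ = C.sec y * (l * (C.sec y)⁻¹ * l⁻¹) * l := by rw [hred]; group
    _ = (C.sec y * zb z (qB w)) * C.sec w * l := by rw [hswap, hinv]; group
    _ = zb z (qB w) * (C.sec y * C.sec w) * l := by rw [(C.zb_comm _ (C.le hsE)).symm.eq]; group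
    _ = _ := by
      rw [C.sec_mul hy (hMl y), ← mul_assoc (zb z (qB w)), C.zb_mul, ← hxe, hqw, hqy, ← pB_xor_right, ← hxe]

/-- The elements of an outer coset. -/
def Coset (n : ℕ) : Set G := {x | x ∈ C.A10 ∧ RepBy C.E C.π x (elt (iIdx.getD n 0))}

/-- The conjugates of the central involution in an outer coset. -/
def Zc (n : ℕ) : Set G := {x | x ∈ C.Coset n ∧ IsConj z x}

theorem coset_E {n : ℕ} {e x : G} (he : e ∈ C.E) (hx : x ∈ C.Coset n) : e * x * e⁻¹ ∈ C.Coset n := by
  refine ⟨(mem_normalizer_iff.mp (C.E_le_N he) x).mp hx.1, fun q hq => ?_⟩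
  have hxH := C.A10_le_H hx.1
  have hq' : e⁻¹ * q * e ∈ C.E := by simpa using C.conj_mem (inv_mem (C.le he)) hq
  rw [show e * x * e⁻¹ * q * (e * x * e⁻¹)⁻¹ = e * (x * (e⁻¹ * q * e) * x⁻¹) * e⁻¹ by group,
    C.rep_E he _ (C.conj_mem hxH hq'), mv_idM (C.π_lt _), hx.2 _ hq']
  congr 1
  have := C.rep_E (inv_mem he) q hq
  rwa [inv_inv, mv_idM (C.π_lt q)] at this

theorem orbit_big {n : ℕ} (hn : n < 8) (hn0 : n ≠ 0) {x : G} (hx : x ∈ C.Coset n) :
    16 ≤ {y : G | ∃ e ∈ C.E, e * x * e⁻¹ = y}.ncard := by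
  classical
  have hM := hx.2
  set M := elt (iIdx.getD n 0) with hMdef
  obtain ⟨hok, hall, -⟩ := Ten.fI_ok
  simp only [List.all_eq_true, Bool.or_eq_true, List.mem_range, beq_iff_eq, Bool.and_eq_true, decide_eq_true_eq] at hok
  obtain ⟨⟨hl16, hnd⟩, -⟩ := (hok n hn).resolve_left hn0
  have hcov := comm_cover
  simp only [List.all_eq_true, Bool.or_eq_true, List.mem_range, beq_iff_eq, List.any_eq_true] at hcov
  have hcov' := (hcov n hn).resolve_left hn0
  have hxH := C.A10_le_H hx.1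
  have hsub : ∀ t ∈ ((comms n).map Prod.fst).toFinset, ∃ y ∈ {y : G | ∃ e ∈ C.E, e * x * e⁻¹ = y},
      C.π (y * x⁻¹) = t := by
    intro t ht
    obtain ⟨⟨t', s⟩, hmem, rfl⟩ := List.mem_map.mp (List.mem_toFinset.mp ht)
    obtain ⟨y, hy, hye⟩ := hcov' _ hmem
    obtain ⟨e, he, rfl⟩ := C.π_surj y hy
    refine ⟨_, ⟨e, he, rfl⟩, ?_⟩
    rw [show e * x * e⁻¹ * x⁻¹ = e * (x * e⁻¹ * x⁻¹) by group,
      C.π_mul e he _ (C.conj_mem hxH (inv_mem he)), hM _ (inv_mem he), C.π_inv he, ← hye]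
    exact Nat.xor_comm _ _
  choose f hf hfπ using hsub
  have h := Set.ncard_le_ncard_of_injOn (s := (Set.univ : Set ↥((comms n).map Prod.fst).toFinset))
    (t := {y : G | ∃ e ∈ C.E, e * x * e⁻¹ = y}) (fun t => f t.1 t.2) (fun t _ => hf t.1 t.2)
    (fun a _ b _ e => Subtype.ext (by
      have e' : f a.1 a.2 = f b.1 b.2 := e
      rw [← hfπ a.1 a.2, ← hfπ b.1 b.2, e'])) (Set.toFinite _)
  rwa [Set.ncard_univ, Nat.card_eq_fintype_card, Fintype.card_coe, List.toFinset_card_of_nodup hnd, List.length_map,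
    hl16] at h

theorem Zc_dvd {n : ℕ} (hn : n < 8) (hn0 : n ≠ 0) : 16 ∣ (C.Zc n).ncard := by
  classical
  have hQ : ∀ q : ↥C.E, ∀ x : ↥(C.Zc n), (q : G) * x * (q : G)⁻¹ ∈ C.Zc n := fun q x =>
    ⟨C.coset_E q.2 x.2.1, x.2.2.trans (isConj_iff.mpr ⟨(q : G), rfl⟩)⟩
  letI : MulAction ↥C.E ↥(C.Zc n) :=
    { smul := fun q x => ⟨(q : G) * x * (q : G)⁻¹, hQ q x⟩
      one_smul := fun x => Subtype.ext (by show ((1 : ↥C.E) : G) * x * ((1 : ↥C.E) : G)⁻¹ = x; simp)
      mul_smul := fun q r x => Subtype.ext (by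
        show ((q * r : ↥C.E) : G) * x * ((q * r : ↥C.E) : G)⁻¹ = (q : G) * ((r : G) * x * (r : G)⁻¹) * (q : G)⁻¹
        push_cast
        group) }
  haveI : Fintype (MulAction.orbitRel.Quotient ↥C.E ↥(C.Zc n)) := Fintype.ofFinite _
  rw [← Nat.card_coe_set_eq, Nat.card_congr (MulAction.selfEquivSigmaOrbits ↥C.E ↥(C.Zc n)), Nat.card_sigma]
  refine Finset.dvd_sum fun o _ => ?_
  obtain ⟨x, hx⟩ : ∃ x, o.out = x := ⟨_, rfl⟩
  rw [hx, Nat.card_coe_set_eq]
  have h1 : (MulAction.orbit ↥C.E x).ncard ∣ 2 ^ 13 := by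
    rw [← MulAction.index_stabilizer]
    have := Subgroup.index_dvd_card (MulAction.stabilizer ↥C.E x)
    rw [C.card] at this
    simpa using this
  have h2 : 16 ≤ (MulAction.orbit ↥C.E x).ncard := by
    refine (C.orbit_big hn hn0 x.2.1).trans (le_of_eq ?_)
    rw [← Set.ncard_image_of_injective (MulAction.orbit ↥C.E x) Subtype.val_injective]
    congr 1
    ext y
    constructor
    · rintro ⟨q, hq, rfl⟩
      exact ⟨⟨_, hQ ⟨q, hq⟩ x⟩, ⟨⟨q, hq⟩, rfl⟩, rfl⟩
    · rintro ⟨w, ⟨q, rfl⟩, rfl⟩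
      exact ⟨q, q.2, rfl⟩
  obtain ⟨k, -, hk⟩ := (Nat.dvd_prime_pow Nat.prime_two).mp h1
  rw [hk] at h2 ⊢
  exact (show (16 : ℕ) = 2 ^ 4 by norm_num) ▸ pow_dvd_pow 2
    ((Nat.pow_le_pow_iff_right one_lt_two).mp ((show (2 : ℕ) ^ 4 = 16 by norm_num) ▸ h2))

theorem conj_coset {g : G} {M : List ℕ} (hg : g ∈ normalizer (C.A10 : Set G) ⊓ centralizer ({z} : Set G))
    (hr : RepBy C.E C.π g M) {i j : ℕ} (hM : ∀ y < 4096, mv M (mv (elt (iIdx.getD i 0)) y) = mv (elt (iIdx.getD j 0)) (mv M y))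
    {x : G} (hx : x ∈ C.Coset i) : g * x * g⁻¹ ∈ C.Coset j := by
  obtain ⟨hgN, hgH⟩ := Subgroup.mem_inf.mp hg
  refine ⟨(mem_normalizer_iff.mp hgN x).mp hx.1, fun q hq => ?_⟩
  have hq' : g⁻¹ * q * g ∈ C.E := by simpa using C.conj_mem (inv_mem hgH) hq
  rw [show g * x * g⁻¹ * q * (g * x * g⁻¹)⁻¹ = g * (x * (g⁻¹ * q * g) * x⁻¹) * g⁻¹ by group,
    hr _ (C.conj_mem (C.A10_le_H hx.1) hq'), hx.2 _ hq', hM _ (C.π_lt _), ← hr _ hq']
  congr 1
  rw [show g * (g⁻¹ * q * g) * g⁻¹ = q by group]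

theorem Zc_eq {n : ℕ} (hn : n < 8) (hn0 : n ≠ 0) : (C.Zc n).ncard = (C.Zc 1).ncard := by
  obtain ⟨g, hg, hr⟩ := C.exists_seven
  obtain ⟨-, -, -, -, h7, -⟩ := Ten.words_ok
  set W := wM [Data.A, Data.B, Data.C] w7 with hW
  have hWl : ∀ m ∈ W, m < 4096 := by rw [hW]; decide +kernel
  have h := Ten.w7_orbit
  simp only [List.all_eq_true, Bool.or_eq_true, List.mem_range, beq_iff_eq, List.any_eq_true] at h
  obtain ⟨k, hk, hke⟩ := (h n hn).resolve_left hn0
  have hkl : ∀ k, ∀ m ∈ mpow W k, m < 4096 := by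
    intro k
    induction k with
    | zero => intro m hm; exact list_lt (M := idM) (by decide +kernel) m hm
    | succ k ih =>
      intro m hm
      simp only [mpow, mm, List.mem_map] at hm
      obtain ⟨x, -, rfl⟩ := hm
      exact mv_lt (n := 12) ih _
  have hcancel : ∀ y < 4096, mv (mpow W k) (mv (mpow W (7 - k)) y) = y ∧ mv (mpow W (7 - k)) (mv (mpow W k) y) = y :=
    fun y hy => by
      constructor <;> rw [← mpow_add W hWl _ _ _ hy]
      · rw [show k + (7 - k) = 7 by omega, h7, mv_idM hy]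
      · rw [show 7 - k + k = 7 by omega, h7, mv_idM hy]
  have hf : ∀ y, mv (mpow W k) (mv (elt (iIdx.getD 1 0)) y) = mv (elt (iIdx.getD n 0)) (mv (mpow W k) y) := fun y => by
    rw [← mv_mm, hke, mv_mm]
  have hb : ∀ y < 4096, mv (mpow W (7 - k)) (mv (elt (iIdx.getD n 0)) y) =
      mv (elt (iIdx.getD 1 0)) (mv (mpow W (7 - k)) y) := fun y hy => by
    conv_lhs => rw [← (hcancel y hy).1]
    rw [← hf, (hcancel _ (mv_lt (n := 12) (elt_lt _) _)).2]
  have hgk : ∀ j, g ^ j ∈ normalizer (C.A10 : Set G) ⊓ centralizer ({z} : Set G) ∧ RepBy C.E C.π (g ^ j) (mpow W j) :=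
    fun j => ⟨pow_mem hg j, C.rep_pow (Subgroup.mem_inf.mp hg).2 hr j⟩
  refine le_antisymm ?_ ?_
  · exact Set.ncard_le_ncard_of_injOn (fun x => g ^ (7 - k) * x * (g ^ (7 - k))⁻¹)
      (fun x hx => ⟨C.conj_coset (hgk _).1 (hgk _).2 hb hx.1, hx.2.trans (isConj_iff.mpr ⟨_, rfl⟩)⟩)
      (fun x _ y _ e => by simpa using e) (Set.toFinite _)
  · exact Set.ncard_le_ncard_of_injOn (fun x => g ^ k * x * (g ^ k)⁻¹)
      (fun x hx => ⟨C.conj_coset (hgk _).1 (hgk _).2 (fun y _ => hf y) hx.1, hx.2.trans (isConj_iff.mpr ⟨_, rfl⟩)⟩)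
      (fun x _ y _ e => by simpa using e) (Set.toFinite _)

theorem coord_rep {a : ℕ → G} (ha : C.IsFrame a) {k : ℕ} (hk : k < 1024) :
    RepBy C.E C.π (C.coord a k) (elt (iIdx.getD (k / 128) 0)) := fun q hq => by
  have hL := C.frameProd_lift ha (show k / 128 < 8 by omega)
  rw [coord, C.rep_mul hL.1.1 (C.rep_E (mul_mem (C.zb_mem _) (C.sec_Dt dPart_mem).1)) hL.2.2 q hq, mv_mm,
    mv_idM (mv_lt (n := 12) (elt_lt _) _)]

theorem coord_coset [IsSimpleGroup G] (hG : ¬ IsMulCommutative G) {a : ℕ → G} (ha : C.IsFrame a) {n : ℕ} (hn : n < 8)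
    {x : G} (hx : x ∈ C.Coset n) : ∃ k < 1024, k / 128 = n ∧ C.coord a k = x := by
  obtain ⟨k, hk, rfl⟩ := C.coord_surj hG ha hx.1
  refine ⟨k, hk, ?_, rfl⟩
  have h1 := elt_inj (iIdx_spec (show k / 128 < 8 by omega)).1 (iIdx_spec hn).1
    (C.rep_unique (C.coord_rep ha hk) hx.2)
  have hl : iIdx.length = 8 := rfl
  rw [List.getD_eq_getElem _ _ (by omega), List.getD_eq_getElem _ _ (by omega)] at h1
  exact Ten.iTen_ok.2.1.getElem_inj_iff.mp h1

theorem inner_conj [IsSimpleGroup G] (hG : ¬ IsMulCommutative G) (a : ℕ → G) {n : ℕ} (hn : n < 128) :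
    IsConj z (C.coord a n) ↔ inZf n = true := by
  have h128 : n / 128 = 0 := by omega
  have he : C.coord a n = zb z (n.testBit 0) * C.sec (dPart n) := by
    rw [coord, h128]; simp [frameProd]
  obtain ⟨hsE, hsπ⟩ := C.sec_mem (d1_spec (dPart_mem (n := n))).1
  have hE : C.coord a n ∈ C.E := he ▸ mul_mem (C.zb_mem _) hsE
  have hπ : C.π (C.coord a n) = dPart n := by
    rw [he, C.π_mul _ (C.zb_mem _) _ hsE, C.π_zb, Nat.zero_xor, hsπ]
  rw [inZf]
  simp only [h128, beq_self_eq_true, if_true, Bool.or_eq_true, Bool.and_eq_true, beq_iff_eq, bne_iff_ne]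
  by_cases hd : dPart n = 0
  · have hlow : n / 2 % 64 = 0 := d1_inj (Nat.mod_lt _ (by norm_num)) (by norm_num) (by rw [mv_zero]; exact hd)
    simp only [hd, ne_eq, not_true, false_and, or_false]
    rw [he, hd, C.sec_zero, mul_one]
    rcases (show n = 0 ∨ n = 1 by omega) with rfl | rfl
    · simp only [zb, Nat.zero_testBit, Bool.false_eq_true, if_false, zero_ne_one, iff_false]
      exact fun h => C.X.ne (isConj_one_left.mp h)
    · simp only [iff_true]
      exact IsConj.refl z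
  · rw [C.conj_iff_cls hG hE (by rw [hπ]; exact hd) (by rw [hπ]; exact (d1_spec dPart_mem).2.1), hπ]
    refine ⟨fun h => Or.inr ⟨hd, h⟩, fun h => (h.resolve_left ?_).2⟩
    rintro rfl
    exact hd (by decide +kernel)

/-- The conjugates of the central involution in the subgroup. -/
def Z10 : Set G := {x | x ∈ C.A10 ∧ IsConj z x}

theorem Z10_card_eq [IsSimpleGroup G] (hG : ¬ IsMulCommutative G) : C.Z10.ncard = 43 + 7 * (C.Zc 1).ncard := by
  classical
  obtain ⟨a, ha⟩ := C.exists_frame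
  let F : Finset ℕ := (Finset.range 1024).filter fun k => IsConj z (C.coord a k)
  have hZ : C.Z10 = (fun k => C.coord a k) '' (F : Set ℕ) := by
    ext x
    constructor
    · rintro ⟨hx, hc⟩
      obtain ⟨k, hk, rfl⟩ := C.coord_surj hG ha hx
      exact ⟨k, by simpa [F, hk] using hc, rfl⟩
    · rintro ⟨k, hk, rfl⟩
      simp only [F, Finset.coe_filter, Finset.mem_range, Set.mem_setOf_eq] at hk
      exact ⟨C.coord_mem ha hk.1, hk.2⟩
  have hZc : ∀ n < 8, C.Zc n = (fun k => C.coord a k) '' ((F.filter fun k => k / 128 = n : Finset ℕ) : Set ℕ) := by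
    intro n hn
    ext x
    constructor
    · rintro ⟨hx, hc⟩
      obtain ⟨k, hk, hkn, rfl⟩ := C.coord_coset hG ha hn hx
      exact ⟨k, Finset.mem_coe.mpr (Finset.mem_filter.mpr ⟨Finset.mem_filter.mpr ⟨Finset.mem_range.mpr hk, hc⟩, hkn⟩), rfl⟩
    · rintro ⟨k, hk, rfl⟩
      simp only [F, Finset.coe_filter, Finset.mem_filter, Finset.mem_range, Set.mem_setOf_eq] at hk
      obtain ⟨⟨hk1, hk2⟩, rfl⟩ := hk
      exact ⟨⟨C.coord_mem ha hk1, C.coord_rep ha hk1⟩, hk2⟩
  have hinj : Set.InjOn (fun k => C.coord a k) (F : Set ℕ) := fun i hi j hj e => by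
    simp only [F, Finset.coe_filter, Finset.mem_range, Set.mem_setOf_eq] at hi hj
    exact C.coord_inj ha hi.1 hj.1 e
  have hfib : ∀ n < 8, (C.Zc n).ncard = (F.filter fun k => k / 128 = n).card := fun n hn => by
    rw [hZc n hn, Set.InjOn.ncard_image (hinj.mono (by intro x hx; exact Finset.mem_filter.mp hx |>.1)),
      Set.ncard_coe_finset]
  rw [hZ, Set.InjOn.ncard_image hinj, Set.ncard_coe_finset,
    Finset.card_eq_sum_card_fiberwise (f := fun k => k / 128) (t := Finset.range 8) (fun k hk => by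
      simp only [F, Finset.coe_filter, Finset.mem_range, Set.mem_setOf_eq] at hk
      simp only [Finset.coe_range, Set.mem_Iio]
      omega)]
  have h0 : (F.filter fun k => k / 128 = 0).card = 43 := by
    rw [show (F.filter fun k => k / 128 = 0) = ((List.range 128).filter inZf).toFinset from ?_,
      List.toFinset_card_of_nodup (List.nodup_range.filter _), inner_forty]
    ext k
    simp only [F, Finset.mem_filter, Finset.mem_range, List.mem_toFinset, List.mem_filter, List.mem_range]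
    constructor
    · rintro ⟨⟨h1, h2⟩, h3⟩
      exact ⟨by omega, (C.inner_conj hG a (by omega)).mp h2⟩
    · rintro ⟨h1, h2⟩
      exact ⟨⟨by omega, (C.inner_conj hG a h1).mpr h2⟩, by omega⟩
  rw [Finset.sum_range_succ' _ 7, h0, Finset.sum_const_nat (m := (C.Zc 1).ncard) fun i hi => by
    have hi7 := Finset.mem_range.mp hi
    rw [← hfib (i + 1) (by omega), C.Zc_eq (by omega) (Nat.succ_ne_zero i)], Finset.card_range]
  omega

theorem card_N [IsSimpleGroup G] (hG : ¬ IsMulCommutative G) :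
    Nat.card ↥(normalizer (C.A10 : Set G)) =
      C.Z10.ncard * Nat.card ↥(normalizer (C.A10 : Set G) ⊓ centralizer ({z} : Set G)) := by
  set N := normalizer (C.A10 : Set G) with hN
  letI : MulAction ↥N G :=
    MulAction.compHom G ((ConjAct.toConjAct : G ≃* ConjAct G).toMonoidHom.comp N.subtype)
  have horb : MulAction.orbit ↥N z = C.Z10 := by
    ext x
    constructor
    · rintro ⟨g, rfl⟩
      exact ⟨(mem_normalizer_iff.mp g.2 z).mp (C.Dt_le C.z_mem_Dt), isConj_iff.mpr ⟨(g : G), rfl⟩⟩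
    · intro hx
      obtain ⟨m, hm, e⟩ := C.fuse_A10 hG hx.1 hx.2
      exact ⟨⟨m, hm⟩, e⟩
  have hst : MulAction.stabilizer ↥N z = (N ⊓ centralizer ({z} : Set G)).subgroupOf N := by
    ext g
    rw [MulAction.mem_stabilizer_iff, mem_subgroupOf, mem_inf, mem_centralizer_singleton_iff]
    show (g : G) * z * (g : G)⁻¹ = z ↔ _
    rw [mul_inv_eq_iff_eq_mul]
    exact ⟨fun h => ⟨g.2, h⟩, fun h => h.2⟩
  have h := (MulAction.stabilizer ↥N z).card_mul_index
  rw [MulAction.index_stabilizer, horb, hst, Nat.card_congr (subgroupOfEquivOfLe inf_le_left).toEquiv] at h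
  rw [← h, mul_comm]

theorem range_mul [IsSimpleGroup G] (hG : ¬ IsMulCommutative G) :
    1024 * Nat.card ↥(C.A10.normalizerMonoidHom.range) = Nat.card ↥(normalizer (C.A10 : Set G)) := by
  have h := C.A10.normalizerMonoidHom.ker.card_mul_index
  rw [index_ker, Subgroup.normalizerMonoidHom_ker,
    Nat.card_congr (subgroupOfEquivOfLe (show centralizer (C.A10 : Set G) ≤ normalizer (C.A10 : Set G) by
      rw [(C.A10_elem hG).2]; exact le_normalizer)).toEquiv, (C.A10_elem hG).2, C.A10_card hG] at h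
  exact h

/-- Sixteen conjugates in each outer coset. -/
theorem Zc_card [IsSimpleGroup G] (hG : ¬ IsMulCommutative G) :
    C.Z10.ncard = 155 ∧ ∀ n < 8, n ≠ 0 → (C.Zc n).ncard = 16 := by
  classical
  obtain ⟨i, hi⟩ := C.Zc_dvd (show 1 < 8 by norm_num) one_ne_zero
  have hbound : (C.Zc 1).ncard ≤ 128 := by
    obtain ⟨a, ha⟩ := C.exists_frame
    refine (Set.ncard_le_ncard (t := (fun k => C.coord a k) '' ((Finset.Ico 128 256 : Finset ℕ) : Set ℕ)) (fun x hx => ?_)
      (Set.toFinite _)).trans ((Set.ncard_image_le (Set.toFinite _)).trans (le_of_eq ?_))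
    · obtain ⟨k, hk, hk1, rfl⟩ := C.coord_coset hG ha (by norm_num) hx.1
      exact ⟨k, Finset.mem_Ico.mpr ⟨by omega, by omega⟩, rfl⟩
    · rw [Set.ncard_coe_finset, Nat.card_Ico]
  have hZ := C.Z10_card_eq hG
  have hj : i = 1 := by
    by_contra hne
    have hi8 : i ≤ 8 := by omega
    obtain ⟨p, hp, hp2, hpZ, hno⟩ : ∃ p, p.Prime ∧ p ≠ 2 ∧ p ∣ C.Z10.ncard ∧ ∀ k < 11, 1 ≤ k → (2 ^ k) % p ≠ 1 := by
      rw [hZ, hi]
      interval_cases i
      · exact ⟨43, by norm_num, by norm_num, by norm_num, by decide⟩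
      · exact absurd rfl hne
      · exact ⟨89, by norm_num, by norm_num, by norm_num, by decide⟩
      · exact ⟨379, by norm_num, by norm_num, by norm_num, by decide⟩
      · exact ⟨491, by norm_num, by norm_num, by norm_num, by decide⟩
      · exact ⟨67, by norm_num, by norm_num, by norm_num, by decide⟩
      · exact ⟨13, by norm_num, by norm_num, by norm_num, by decide⟩
      · exact ⟨827, by norm_num, by norm_num, by norm_num, by decide⟩
      · exact ⟨313, by norm_num, by norm_num, by norm_num, by decide⟩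
    have hd : p ∣ 1024 * Nat.card ↥(C.A10.normalizerMonoidHom.range) := by
      rw [C.range_mul hG, C.card_N hG]; exact dvd_mul_of_dvd_left hpZ _
    have hd' : p ∣ Nat.card ↥(C.A10.normalizerMonoidHom.range) := by
      refine (hp.dvd_mul.mp hd).resolve_left fun h => hp2 ?_
      exact (Nat.prime_dvd_prime_iff_eq hp Nat.prime_two).mp
        (hp.dvd_of_dvd_pow (show p ∣ 2 ^ 10 by norm_num; exact h))
    obtain ⟨k, k1, k2, k3⟩ := Ten.prime_of_aut (C.A10_card hG) hp hp2 hd'
    exact hno k (by omega) k1 k3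
  subst hj
  exact ⟨by omega, fun n hn hn0 => by rw [C.Zc_eq hn hn0, hi]⟩

/-- A lower bound for the automiser. -/
theorem range_ge [IsSimpleGroup G] (hG : ¬ IsMulCommutative G) :
    9999360 ≤ Nat.card ↥(C.A10.normalizerMonoidHom.range) := by
  have h := C.range_mul hG
  rw [C.card_N hG, (C.Zc_card hG).1] at h
  have h2 := Nat.le_of_dvd Nat.card_pos C.card_NH
  omega

end Ctx

end Cfsg.Lib.JankoFour
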