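import Cfsg.Agent.JankoFour.TenGroup.Checks

/-!
Finite checks on the module of dimension ten: the class of the central involution, the linear maps preserving it and
their identification with the action of the linear group on bivectors.
-/

set_option autoImplicit false
set_option maxRecDepth 100000

namespace Cfsg.Lib.JankoFour.Ten

open TenData

/-- The space part of a coordinate. -/
def dPart (n : ℕ) : ℕ := mv d1B (n / 2 % 64)

/-- The signs of the lifts of the products for a parameter. -/
def sig (b : ℕ) : List Bool := [false, false, false, b.testBit 0, false, b.testBit 1, b.testBit 2, b.testBit 3]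

/-- The class of the central involution, by the commutators. -/
def inZf (n : ℕ) : Bool :=
  if n / 128 == 0 then n == 1 || (dPart n != 0 && cls (dPart n) == 0)
  else (comms (n / 128)).contains (dPart n, n.testBit 0)

/-- The change of the lifts for a parameter. -/
def shiftS (b n : ℕ) : ℕ := if (sig b).getD (n / 128) false then n ^^^ 1 else n

/-- Membership in the class. -/
def inZ (n : ℕ) : Bool := zMask.testBit n

/-- The members. -/
def zL : List ℕ := (List.range 1024).filter inZ

/-- The class for a parameter. -/
def inZs (b n : ℕ) : Bool := inZ (shiftS b n)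

/-- Witnesses against the parameters other than zero. -/
def sigWit : List ℕ := [1, 128, 128, 128, 128, 128, 128, 128, 128, 128, 128, 128, 256, 128, 128, 128]

/-- The number of members whose translate is a member. -/
def val (b d : ℕ) : ℕ := ((List.range 1024).filter fun n => inZs b n && inZs b (n ^^^ d)).length

theorem sig_unique : ((List.range 16).all fun b => b == 0 ||
    (inZs b (sigWit.getD b 0) && decide (sigWit.getD b 0 < 1024) && !(val b (sigWit.getD b 0) == val b 1))) = true := by
  decide +kernel

theorem z_mask : ((List.range 1024).all fun n => inZf n == inZ n) = true ∧ zL.length = 155 := by decide +kernel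

/-- The candidates for the image of a base point. -/
def baseCand (pre : List ℕ) (b : ℕ) : List ℕ :=
  (List.range 1024).filter fun c => (List.range (2 ^ pre.length)).all fun s =>
    inZ (c ^^^ mv pre s) == inZ (b ^^^ mv pre s) && c ^^^ mv pre s != 0

theorem chain_base : chainB.length = 10 ∧
    ((List.range 10).all fun k =>
      (fun pre b => decide (b < 1024) && !((spanM pre).contains b) &&
        (baseCand pre b).length == (chainB.getD k (0, 0)).2)
      ((chainB.take k).map Prod.fst) (chainB.getD k (0, 0)).1) = true ∧
    (chainB.map Prod.snd).prod = 9999360 := by decide +kernel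

theorem base_span : ((List.range 10).all fun j => (spanM (chainB.map Prod.fst)).contains (2 ^ j)) = true := by
  decide +kernel

/-- The pairs of coordinates of a bivector. -/
def wPairs : List (ℕ × ℕ) := [(0, 1), (0, 2), (0, 3), (0, 4), (1, 2), (1, 3), (1, 4), (2, 3), (2, 4), (3, 4)]

/-- The bivector of two vectors. -/
def wedge (u v : ℕ) : ℕ :=
  ((List.range 10).map fun k => if xor (u.testBit (wPairs.getD k (0, 0)).1 && v.testBit (wPairs.getD k (0, 0)).2)
    (u.testBit (wPairs.getD k (0, 0)).2 && v.testBit (wPairs.getD k (0, 0)).1) then 2 ^ k else 0).foldr (· ^^^ ·) 0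

theorem wedge_lt : ((List.range 32).all fun u => (List.range 32).all fun v =>
    decide (wedge u v < 1024) && wedge u v == wedge v u && (decide (u ≠ v) || wedge u v == 0) &&
      (wedge u v == 0 || inZ (mv toA (wedge u v)))) = true := by decide +kernel

theorem wedge_bilin : ((List.range 32).all fun u => (List.range 5).all fun i => (List.range 32).all fun v =>
    wedge (2 ^ i ^^^ u) v == wedge (2 ^ i) v ^^^ wedge u v) = true := by decide +kernel

theorem dec_all : (zL.all fun n => decP.any fun q =>
    decide (q.1 < 32) && decide (q.2 < 32) && mv toA (wedge q.1 q.2) == n) = true := by decide +kernel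

theorem coord_inv : toA.length = 10 ∧ toW.length = 10 ∧ (toA.all fun m => decide (m < 1024)) = true ∧
    (toW.all fun m => decide (m < 1024)) = true ∧
    ((List.range 10).all fun j => mv toA (mv toW (2 ^ j)) == 2 ^ j && mv toW (mv toA (2 ^ j)) == 2 ^ j &&
      wedge (2 ^ (wPairs.getD j (0, 0)).1) (2 ^ (wPairs.getD j (0, 0)).2) == 2 ^ j) = true := by decide +kernel

/-- A column is a multiple of a basis vector. -/
theorem col_rigid : ((List.range 5).all fun i => (List.range 5).all fun j => i == j ||
    (List.range 32).all fun c => (List.range 32).all fun d => !(wedge c d == wedge (2 ^ i) (2 ^ j)) ||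
      c &&& (31 ^^^ (2 ^ i ^^^ 2 ^ j)) == 0) = true := by decide +kernel

theorem col_single : ((List.range 5).all fun i => (List.range 32).all fun c =>
    !(c &&& (31 ^^^ (2 ^ i ^^^ 2 ^ ((i + 1) % 5))) == 0 && c &&& (31 ^^^ (2 ^ i ^^^ 2 ^ ((i + 2) % 5))) == 0) ||
      c == 0 || c == 2 ^ i) = true := by decide +kernel

/-- The action on coordinates of a matrix given by columns. -/
def bigM (cols : List ℕ) : List ℕ :=
  (List.range 10).map fun k => mv toA (mv (wPairs.map fun q => wedge (cols.getD q.1 0) (cols.getD q.2 0)) (toW.getD k 0))

/-- The maps used for the orbits. -/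
def bigG : List (List ℕ) := gSL.map bigM

/-- An entry of the forest. -/
def oEnt (x : ℕ) : ℕ := (orbTree >>> (8 * x)) % 256

/-- Validity of an entry. -/
def oOK (x : ℕ) : Bool :=
  if oEnt x / 4 == 0 then x == orbReps.getD (if inZ x then 0 else 1) 0
  else (fun y => decide (oEnt y / 4 < oEnt x / 4) && decide (oEnt x % 4 < 3) && decide (y < 1024) && y != 0 &&
    inZ y == inZ x) (mv (bigG.getD (oEnt x % 4) []) x)

theorem orbit_tree : ((List.range 1024).all fun x => x == 0 || oOK x) = true ∧
    (bigG.all fun M => M.all (fun m => decide (m < 1024)) && (zL.all fun n => inZ (mv M n))) = true := by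
  decide +kernel

theorem orbit_sum : inZ (orbSum.1 ^^^ orbSum.2) = true ∧ inZ orbSum.1 = false ∧ inZ orbSum.2 = false ∧
    orbSum.1 < 1024 ∧ orbSum.2 < 1024 ∧ orbSum.1 ≠ 0 ∧ orbSum.2 ≠ 0 ∧
    ((List.range 10).all fun j => (spanM zBasis).contains (2 ^ j)) = true ∧
    (zBasis.all fun m => inZ m) = true := by decide +kernel

theorem comp_ok : ((spanX compB).all fun x => decide (x < 4096) && !qB x && (spanX compB).contains (mv Data.OM x) &&
      (x == 0 || !((spanM d1B).contains x))) = true ∧
    ((spanX compB).all fun x => (spanX compB).all fun y => !pB x y && (spanX compB).contains (x ^^^ y)) = true ∧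
    (spanX compB).length = 64 ∧ (spanX compB).Nodup ∧
    (jGen.all fun g => decide (g < 256) && g != 0 && mul8 g g == 0 && tIdx.contains g &&
      ((spanX compB).all fun x => (spanX compB).contains (mv (elt g) x))) = true := by decide +kernel

/-- The product of the first two generators. -/
def jR : ℕ := mul8 (jGen.getD 0 0) (jGen.getD 1 0)

/-- The index with given exponents. -/
def jEl (k : ℕ) (e d : Bool) : ℕ :=
  mul8 (mul8 ([0, jR, mul8 jR jR, mul8 (mul8 jR jR) jR].getD k 0) (if e then jGen.getD 0 0 else 0))
    (if d then jGen.getD 2 0 else 0)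

theorem j_gen : (fun a b c => mul8 (mul8 a c) (mul8 a c) == 0 && mul8 (mul8 b c) (mul8 b c) == 0 &&
      mul8 a c != 0 && mul8 b c != 0 && mul8 jR jR != 0 && mul8 (mul8 jR jR) (mul8 jR jR) == 0)
    (jGen.getD 0 0) (jGen.getD 1 0) (jGen.getD 2 0) = true ∧
    (yExp.all fun t => !(iIdx.contains (jEl t.1 t.2.1 t.2.2)) || t == (0, false, false)) = true ∧
    (yExp.map fun t => jEl t.1 t.2.1 t.2.2).Nodup := by decide +kernel

end Cfsg.Lib.JankoFour.Ten
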