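import Cfsg.Agent.JankoFour.TenGroup.Candidates

/-!
A self-centralising elementary abelian subgroup of order two to the tenth in the Sylow subgroup is conjugate in the
centraliser of the involution to the centraliser of the first candidate space.
-/

set_option autoImplicit false
set_option maxRecDepth 100000
set_option maxHeartbeats 1000000
set_option linter.style.haveILetI false
set_option linter.unusedSectionVars false

namespace Cfsg.Lib.JankoFour

open Subgroup
open TenData (d1B d2B swIdx)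
open Ten (spanM)
open Data (X0 W0)

universe u

variable {G : Type u} [Group G] [Finite G]

namespace Ctx

variable {z : G} {P : Subgroup G} (C : Ctx z P)

include C

/-- The distinguished case lies in the larger subgroup. -/
theorem wide_case {A : Subgroup G} (hAS : A ≤ C.S) (hAc : ∀ a ∈ A, ∀ b ∈ A, Commute a b) (hcard : 2 ^ 10 ≤ Nat.card ↥A)
    (hidx : ∀ a ∈ A, ∀ i < 256, RepBy C.E C.π a (elt i) → i ∈ spanL X0.2) (hW : ∀ e ∈ A ⊓ C.E, C.π e ∈ W0)
    (hbig : 64 ≤ Nat.card ↥(A ⊓ C.E)) : A ≤ C.V := by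
  classical
  have hKW : A ⊓ C.E ≤ C.V ⊓ C.E := fun e he => C.mem_Wt_iff.mpr ⟨he.2, hW e he⟩
  have hdec : ∀ a ∈ A, ∃ i < 256, RepBy C.E C.π a (elt i) ∧ ∃ x ∈ C.V, ∃ e ∈ C.E, a = x * e ∧
      ∀ q ∈ A ⊓ C.E, Commute e q := by
    intro a ha
    obtain ⟨i, hi, hr, -⟩ := C.exists_idx (hAS ha)
    obtain ⟨x, hx, hxr⟩ := C.exists_index_lift hi (hidx a ha i hi hr)
    refine ⟨i, hi, hr, x, hx, x⁻¹ * a, C.rep_quot (C.mem_S.mp (hAS ha)).1 (C.V_le_H hx) hr hxr, by group,
      fun q hq => ?_⟩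
    exact (C.V_comm hx (Subgroup.mem_inf.mp (hKW hq)).1).inv_left.mul_left (hAc a ha q hq.1)
  by_contra hnot
  obtain ⟨a0, ha0, ha0V⟩ := SetLike.not_le_iff_exists.mp hnot
  obtain ⟨i0, hi0, hr0, x0, hx0, e0, he0, rfl, hc0⟩ := hdec a0 ha0
  have hbad : ∀ {e : G}, e ∈ C.E → C.π e ∉ W0 → (∀ q ∈ A ⊓ C.E, Commute e q) →
      ∀ w ∈ C.V ⊓ C.E, Commute e w → w ∈ A ⊓ C.E := by
    intro e he heW hc w hw hew
    by_contra hwK
    refine heW (C.perp_W0 he fun v hv => ?_)
    have hv' := C.mem_Wt_iff.mpr hv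
    have hidx2 : ((A ⊓ C.E).subgroupOf (C.V ⊓ C.E)).index ≤ 2 := by
      have h := ((A ⊓ C.E).subgroupOf (C.V ⊓ C.E)).card_mul_index
      rw [Nat.card_congr (subgroupOfEquivOfLe hKW).toEquiv, C.card_Wt] at h
      by_contra h3
      have := Nat.mul_le_mul hbig (show 3 ≤ ((A ⊓ C.E).subgroupOf (C.V ⊓ C.E)).index by omega)
      omega
    by_cases hvK : v ∈ A ⊓ C.E
    · exact hc v hvK
    · have hmem : (⟨w, hw⟩ : ↥(C.V ⊓ C.E)) * ⟨v, hv'⟩ ∈ (A ⊓ C.E).subgroupOf (C.V ⊓ C.E) := by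
        rcases (show ((A ⊓ C.E).subgroupOf (C.V ⊓ C.E)).index = 1 ∨ ((A ⊓ C.E).subgroupOf (C.V ⊓ C.E)).index = 2 by
          have := Nat.pos_of_ne_zero (Subgroup.index_ne_zero_of_finite (H := (A ⊓ C.E).subgroupOf (C.V ⊓ C.E)))
          omega) with h1 | h2
        · rw [Subgroup.index_eq_one.mp h1]; exact mem_top _
        · exact (mul_mem_iff_of_index_two h2).mpr (iff_of_false (fun h => hwK (mem_subgroupOf.mp h))
            (fun h => hvK (mem_subgroupOf.mp h)))
      have h1 := hew.inv_right.mul_right (hc _ (mem_subgroupOf.mp hmem))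
      rwa [show w⁻¹ * ((⟨w, hw⟩ * ⟨v, hv'⟩ : ↥(C.V ⊓ C.E)) : G) = v by simp] at h1
  have he0W : C.π e0 ∉ W0 := fun h => ha0V (mul_mem hx0 (C.Wt_le_V ⟨he0, h⟩))
  -- the product of two elements outside is inside
  have hpair : ∀ b ∈ A, b ∉ C.V → b * (x0 * e0) ∈ C.V := by
    intro b hb hbV
    obtain ⟨i, hi, hr, x, hx, e, he, rfl, hc⟩ := hdec b hb
    have heW : C.π e ∉ W0 := fun h => hbV (mul_mem hx (C.Wt_le_V ⟨he, h⟩))
    set e' := x0⁻¹ * e * x0 with he'def
    have hx0H := C.V_le_H hx0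
    have he' : e' ∈ C.E := by simpa [e'] using C.conj_mem (inv_mem hx0H) he
    have hcomm' : ∀ w ∈ C.V ⊓ C.E, (Commute e' w ↔ Commute e w) := by
      intro w hw
      have hwc : x0⁻¹ * w * x0 = w := by
        rw [mul_assoc, (C.V_comm (Subgroup.mem_inf.mp hw).1 hx0).eq, inv_mul_cancel_left]
      constructor
      · intro h
        rw [← hwc] at h
        simpa [e', mul_assoc] using h.map (MulAut.conj x0).toMonoidHom
      · intro h
        rw [← hwc]
        simpa [e', mul_assoc] using h.map (MulAut.conj x0⁻¹).toMonoidHom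
    have hW' : C.π (e' * e0) ∈ W0 := C.perp_W0 (mul_mem he' he0) fun w hw => by
      have hwV := C.mem_Wt_iff.mpr hw
      by_cases hwK : w ∈ A ⊓ C.E
      · exact ((hcomm' w hwV).mpr (hc w hwK)).mul_left (hc0 w hwK)
      · have h1 : ¬ Commute e' w := fun h => hwK (hbad he heW hc w hwV ((hcomm' w hwV).mp h))
        have h2 : ¬ Commute e0 w := fun h => hwK (hbad he0 he0W hc0 w hwV h)
        rw [C.π_comm _ he' w hw.1] at h1
        rw [C.π_comm _ he0 w hw.1] at h2
        rw [C.π_comm _ (mul_mem he' he0) w hw.1, C.π_mul _ he' _ he0, pB_xor_left]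
        simp only [Bool.not_eq_false] at h1 h2
        rw [h1, h2]; rfl
    rw [show x * e * (x0 * e0) = x * x0 * (e' * e0) by rw [he'def]; group]
    exact mul_mem (mul_mem hx hx0) (C.Wt_le_V ⟨mul_mem he' he0, hW'⟩)
  set K := A ⊓ C.V with hK
  have hidx2 : Nat.card ↥A ≤ 2 * Nat.card ↥K := by
    let f : ↥A → Bool × ↥K := fun a => if h : (a : G) ∈ C.V then (false, ⟨a, a.2, h⟩)
      else (true, ⟨(a : G) * (x0 * e0), A.mul_mem a.2 ha0, hpair a a.2 h⟩)
    have hf : Function.Injective f := by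
      intro a b e
      by_cases ha : (a : G) ∈ C.V <;> by_cases hb : (b : G) ∈ C.V
      all_goals simp only [f, dif_pos, dif_neg, ha, hb, not_false_eq_true, Prod.mk.injEq, Subtype.mk.injEq,
        Bool.false_eq_true, Bool.true_eq_false, false_and, true_and] at e
      · exact Subtype.ext (congrArg (fun k : ↥K => (k : G)) e)
      · exact Subtype.ext (mul_right_cancel (congrArg (fun k : ↥K => (k : G)) e))
    refine (Nat.card_le_card_of_injective f hf).trans (le_of_eq ?_)
    rw [Nat.card_prod, Nat.card_eq_fintype_card, Fintype.card_bool]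
  have hKE : Nat.card ↥(K ⊓ C.E) ≤ 64 := by
    obtain ⟨w, hw, hwn⟩ : ∃ w ∈ C.V ⊓ C.E, w ∉ A ⊓ C.E := by
      by_contra! h
      exact he0W (C.perp_W0 he0 fun w hw => hc0 w (h w (C.mem_Wt_iff.mpr hw)))
    have hlt : A ⊓ C.E < C.V ⊓ C.E := lt_of_le_of_ne hKW fun e => hwn (e ▸ hw)
    have h1 : Nat.card ↥(A ⊓ C.E) ∣ 128 := C.card_Wt ▸ card_dvd_of_le hKW
    have h2 : Nat.card ↥(A ⊓ C.E) ≠ 128 := fun e => hlt.ne (eq_of_le_of_card_ge hKW (by rw [C.card_Wt, e]))
    have h3 : Nat.card ↥(A ⊓ C.E) ≤ 64 := by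
      obtain ⟨j, hj, e⟩ := (Nat.dvd_prime_pow (m := 7) Nat.prime_two).mp (by norm_num; exact h1)
      rw [e] at h2 ⊢
      refine (Nat.pow_le_pow_right two_pos (show j ≤ 6 from ?_)).trans (by norm_num)
      by_contra hj'
      exact h2 (by rw [show j = 7 by omega]; norm_num)
    exact (Nat.le_of_dvd Nat.card_pos (card_dvd_of_le (inf_le_inf_right _ inf_le_left))).trans h3
  set J : Finset ℕ := ((spanL X0.2).filter fun i => mv (elt i) (C.π e0) == C.π e0).toFinset with hJ
  have hKc := C.card_le_index (A := K) (inf_le_left.trans hAS) J (fun b hb i hi hr => by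
    refine List.mem_toFinset.mpr (List.mem_filter.mpr ⟨hidx b hb.1 i hi hr, beq_iff_eq.mpr ?_⟩)
    have hcx : Commute b x0 := C.V_comm hb.2 hx0
    have hcb : Commute b (x0 * e0) := hAc b hb.1 _ ha0
    have hce : Commute b e0 := by simpa using hcx.inv_right.mul_right hcb
    rw [← hr e0 he0, hce.eq, mul_inv_cancel_right])
  have hu := List.all_eq_true.mp X0_fixers _ (List.mem_range.mpr (C.π_lt e0))
  simp only [Bool.or_eq_true, List.contains_iff_mem, decide_eq_true_eq] at hu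
  have hJ8 : J.card < 8 := lt_of_le_of_lt (List.toFinset_card_le _) (hu.resolve_left he0W)
  have hKJ := hKc.trans (Nat.mul_le_mul (Nat.lt_succ_iff.mp hJ8) hKE)
  omega

theorem d2_image {x : ℕ} (hx : x ∈ spanM d1B) : ∃ y ∈ spanM d2B, mv (elt swIdx) y = x := by
  obtain ⟨-, -, hsw⟩ := Ten.swap_ok
  simp only [List.all_eq_true, List.contains_iff_mem] at hsw
  have hnd : ((spanM d2B).map (mv (elt swIdx))).Nodup ∧ (spanM d2B).length = 64 := by decide +kernel
  have hsub : ((spanM d2B).map (mv (elt swIdx))).toFinset = (spanM d1B).toFinset := by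
    refine Finset.eq_of_subset_of_card_le (fun y hy => ?_) ?_
    · obtain ⟨x, hx, rfl⟩ := List.mem_map.mp (List.mem_toFinset.mp hy)
      exact List.mem_toFinset.mpr (spanM_map hsw x hx)
    · rw [d1_card, List.toFinset_card_of_nodup hnd.1, List.length_map, hnd.2]
  exact List.mem_map.mp (List.mem_toFinset.mp (hsub.symm ▸ List.mem_toFinset.mpr hx :
    x ∈ ((spanM d2B).map (mv (elt swIdx))).toFinset))

/-- A self-centralising subgroup is conjugate into the candidate. -/
theorem conj_le_A10 {A : Subgroup G} (hA : Cfsg.IsElementaryAbelian 2 A) (hAS : A ≤ C.S) (hcard : Nat.card ↥A = 2 ^ 10)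
    (hself : centralizer (A : Set G) = A) :
    ∃ h ∈ centralizer ({z} : Set G), ∀ a ∈ A, h * a * h⁻¹ ∈ C.A10 := by
  have hAc : ∀ a ∈ A, ∀ b ∈ A, Commute a b := fun a ha b hb => congrArg Subtype.val (hA.1.is_comm.comm ⟨a, ha⟩ ⟨b, hb⟩)
  rcases C.classify hAS (fun a ha => by rw [← pow_two, hA.2 a ha]; exact one_mem _)
    (fun a ha e he => hAc a ha e he.1) hcard.ge with ⟨h1, h2, h3⟩ | ⟨B, hB, -, hfull⟩
  · exfalso
    have hAV := C.wide_case hAS hAc hcard.ge h1 h2 h3
    have hVA : C.V ≤ A := fun v hv => hself ▸ mem_centralizer_iff.mpr fun a ha => (C.V_comm (hAV ha) hv).eq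
    have := Subgroup.card_le_of_le hVA
    rw [C.V_spec.2.1, hcard] at this
    norm_num at this
  · -- an element carrying the space to the first one
    obtain ⟨h, hh, hmap⟩ : ∃ h ∈ centralizer ({z} : Set G), ∀ x ∈ spanM d1B, ∃ e ∈ A ⊓ C.E,
        C.π (h * e * h⁻¹) = x := by
      rcases hB with rfl | rfl
      · exact ⟨1, one_mem _, fun x hx => by simpa using hfull x hx⟩
      · obtain ⟨g, hg, hr⟩ := C.exists_elt Ten.swap_ok.1
        refine ⟨g, hg, fun x hx => ?_⟩
        obtain ⟨y, hy, rfl⟩ := C.d2_image hx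
        obtain ⟨e, he, rfl⟩ := hfull y hy
        exact ⟨e, he, hr e he.2⟩
    refine ⟨h, hh, fun a ha => mem_centralizer_iff.mpr fun q hq => ?_⟩
    obtain ⟨e, he, hπ⟩ := hmap _ hq.2
    have hce : Commute (h * a * h⁻¹) (h * e * h⁻¹) := (hAc a ha e he.1).map (MulAut.conj h).toMonoidHom
    rcases C.π_eq hq.1 (C.conj_mem hh he.2) hπ.symm with r | r
    · rw [r]; exact hce.eq.symm
    · rw [r]
      refine (Commute.mul_right ?_ hce).eq.symm
      exact mem_centralizer_singleton_iff.mp (mul_mem (mul_mem hh (C.mem_S.mp (hAS ha)).1) (inv_mem hh))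

end Ctx

end Cfsg.Lib.JankoFour
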