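import Cfsg.Agent.JankoFour.Split
import Cfsg.Agent.JankoFour.TenGroup.Wide
import Cfsg.Agent.JankoFour.TenGroup.GroupChecks

/-!
The centraliser of the candidate space is elementary abelian of order two to the tenth and self-centralising, and
every such subgroup is conjugate to it.
-/

set_option autoImplicit false
set_option maxRecDepth 100000
set_option maxHeartbeats 1000000
set_option linter.style.haveILetI false
set_option linter.unusedSectionVars false

namespace Cfsg.Lib.JankoFour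

open Subgroup
open TenData (d1B iIdx)
open Ten (spanM dPart)
open Data (W0)

universe u

variable {G : Type u} [Group G] [Finite G]

theorem iIdx_spec {n : ℕ} (hn : n < 8) : iIdx.getD n 0 < 256 ∧ mul8 (iIdx.getD n 0) (iIdx.getD n 0) = 0 ∧
    mm (elt (iIdx.getD n 0)) Data.OM = mm Data.OM (elt (iIdx.getD n 0)) ∧
    (∀ x ∈ spanM d1B, mv (elt (iIdx.getD n 0)) x = x) ∧ (n ≠ 0 → iIdx.getD n 0 ≠ 0) := by
  have h := Ten.iTen_ok.2.2.2.1
  simp only [List.all_eq_true, Bool.and_eq_true, decide_eq_true_eq, beq_iff_eq, List.contains_iff_mem] at h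
  have hl : iIdx.length = 8 := rfl
  have hm : iIdx.getD n 0 ∈ iIdx := by
    rw [List.getD_eq_getElem _ _ (hl ▸ hn)]; exact List.getElem_mem _
  obtain ⟨⟨⟨⟨h1, h2⟩, h3⟩, h4⟩, -⟩ := h _ hm
  refine ⟨h1, h2, h3, h4, fun hn0 e => hn0 ?_⟩
  have h0 : iIdx.getD 0 0 = 0 := rfl
  rw [← h0, List.getD_eq_getElem _ _ (hl ▸ hn), List.getD_eq_getElem _ _ (by rw [hl]; norm_num)] at e
  exact Ten.iTen_ok.2.1.getElem_inj_iff.mp e

theorem iIdx_mul {n m : ℕ} (hn : n < 8) (hm : m < 8) :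
    mul8 (iIdx.getD n 0) (iIdx.getD m 0) = iIdx.getD (n ^^^ m) 0 := by
  have h := Ten.iTen_ok.2.2.2.2.1
  simp only [List.all_eq_true, List.mem_range, beq_iff_eq] at h
  exact h n hn m hm

theorem dPart_mem {n : ℕ} : dPart n ∈ spanM d1B :=
  mem_spanM.mpr ⟨n / 2 % 64, by rw [Ten.d1_ok.1]; exact Nat.mod_lt _ (by norm_num), rfl⟩

theorem d1_inj {a b : ℕ} (ha : a < 64) (hb : b < 64) (h : mv d1B a = mv d1B b) : a = b :=
  List.inj_on_of_nodup_map Ten.d1_ok.2.1 (List.mem_range.mpr (by rw [Ten.d1_ok.1]; exact ha))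
    (List.mem_range.mpr (by rw [Ten.d1_ok.1]; exact hb)) h

theorem split_xor (m n : ℕ) : (m ^^^ n) / 128 = m / 128 ^^^ n / 128 ∧
    dPart (m ^^^ n) = dPart m ^^^ dPart n ∧ (m ^^^ n).testBit 0 = xor (m.testBit 0) (n.testBit 0) := by
  refine ⟨?_, ?_, Nat.testBit_xor _ _ _⟩
  · rw [show (128 : ℕ) = 2 ^ 7 by norm_num, ← Nat.shiftRight_eq_div_pow, ← Nat.shiftRight_eq_div_pow,
      ← Nat.shiftRight_eq_div_pow, Nat.shiftRight_xor_distrib]
  · rw [dPart, dPart, dPart, ← mv_xor]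
    congr 1
    refine Nat.eq_of_testBit_eq fun i => ?_
    rw [show (64 : ℕ) = 2 ^ 6 by norm_num]
    simp only [Nat.testBit_mod_two_pow, Nat.testBit_xor, Nat.testBit_div_two]
    by_cases h : i < 6 <;> simp [h]

namespace Ctx

variable {z : G} {P : Subgroup G} (C : Ctx z P)

include C

theorem lift_comm_p {g : G} {n : ℕ} (hn : n < 8) (hg : C.Lift g (iIdx.getD n 0)) : Commute g C.p := by
  rcases hg.1.2 with h | h
  · exact h
  exfalso
  obtain ⟨hi, hsq, hom, -, -⟩ := iIdx_spec hn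
  have key : ∀ y < 4096, mv Data.OM (mv (elt (iIdx.getD n 0)) (mv Data.OM y)) = mv (elt (iIdx.getD n 0)) y := by
    intro y hy
    obtain ⟨q, hq, rfl⟩ := C.π_surj y hy
    rw [← C.rep_p q hq, ← hg.2.2 _ (C.conj_mem C.pH hq), ← C.rep_p _ (C.conj_mem hg.1.1 (C.conj_mem C.pH hq)),
      ← hg.2.2 q hq]
    congr 1
    rw [show g * (C.p * q * C.p⁻¹) * g⁻¹ = (g * C.p * g⁻¹) * (g * q * g⁻¹) * (g * C.p * g⁻¹)⁻¹ by group, h]
    group
  have h1 := mul8_spec hi hi 1 (by norm_num)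
  rw [hsq, elt_zero, mv_idM (by norm_num)] at h1
  have h2 := key (mv (elt (iIdx.getD n 0)) 1) (mv_lt (n := 12) (elt_lt _) _)
  rw [← h1, ← mv_mm (elt _) Data.OM, hom, mv_mm, ← h1] at h2
  revert h2
  decide +kernel

theorem lift_A10 {g : G} {n : ℕ} (hn : n < 8) (hg : C.Lift g (iIdx.getD n 0)) : g ∈ C.A10 :=
  mem_centralizer_iff.mpr fun _ hq =>
    (C.fixed_comm hg.1 hg.2.2 hq.1 ((iIdx_spec hn).2.2.2.1 _ hq.2) (d1_spec hq.2).2.1).eq.symm

/-- Three lifts generating the part outside the extraspecial group. -/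
def IsFrame (a : ℕ → G) : Prop := ∀ j < 3, C.Lift (a j) (iIdx.getD (2 ^ j) 0)

theorem exists_frame : ∃ a : ℕ → G, C.IsFrame a := by
  choose a ha using fun j : Fin 3 => C.exists_lift (iIdx_spec (Nat.pow_lt_pow_right (a := 2) (n := 3) (by norm_num) j.2)).1
  exact ⟨fun j => if h : j < 3 then a ⟨j, h⟩ else 1, fun j hj => by simp only [dif_pos hj]; exact ha _⟩

end Ctx

/-- The product of the lifts with given exponents. -/
def frameProd (a : ℕ → G) (m : ℕ) : G :=
  (if m.testBit 0 then a 0 else 1) * (if m.testBit 1 then a 1 else 1) * (if m.testBit 2 then a 2 else 1)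

namespace Ctx

variable {z : G} {P : Subgroup G} (C : Ctx z P)

include C

theorem frameProd_lift {a : ℕ → G} (ha : C.IsFrame a) {m : ℕ} (hm : m < 8) :
    C.Lift (frameProd a m) (iIdx.getD m 0) := by
  have hone : C.Lift (1 : G) 0 := ⟨C.np_one, by norm_num, elt_zero ▸ C.rep_one⟩
  have h : ∀ j < 3, C.Lift (if m.testBit j then a j else 1) (iIdx.getD (if m.testBit j then 2 ^ j else 0) 0) := by
    intro j hj
    split
    · exact ha j hj
    · exact hone
  have hlt : ∀ j < 3, (if m.testBit j then 2 ^ j else 0) < 8 := by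
    intro j hj
    split
    · exact Nat.pow_lt_pow_right (a := 2) (n := 3) (by norm_num) hj
    · norm_num
  have := C.lift_mul (C.lift_mul (h 0 (by norm_num)) (h 1 (by norm_num))) (h 2 (by norm_num))
  rwa [iIdx_mul (hlt 0 (by norm_num)) (hlt 1 (by norm_num)),
    iIdx_mul (Nat.xor_lt_two_pow (n := 3) (hlt 0 (by norm_num)) (hlt 1 (by norm_num))) (hlt 2 (by norm_num)),
    show ((if m.testBit 0 then 2 ^ 0 else 0) ^^^ (if m.testBit 1 then 2 ^ 1 else 0) ^^^
      (if m.testBit 2 then 2 ^ 2 else 0)) = m by interval_cases m <;> rfl] at this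

theorem frameProd_mul [IsSimpleGroup G] (hG : ¬ IsMulCommutative G) {a : ℕ → G} (ha : C.IsFrame a) {m n : ℕ}
    (hm : m < 8) (hn : n < 8) : frameProd a m * frameProd a n = frameProd a (m ^^^ n) := by
  have hsq : ∀ j < 3, a j * a j = 1 := fun j hj =>
    C.lift_involution hG (ha j hj) ((iIdx_spec (Nat.pow_lt_pow_right (a := 2) (n := 3) (by norm_num) hj)).2.2.2.2
      (by simp)) (iIdx_spec (Nat.pow_lt_pow_right (a := 2) (n := 3) (by norm_num) hj)).2.1
  have hpair : ∀ i < 3, ∀ j < 3, Commute (a i) (a j) := by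
    intro i hi j hj
    rcases eq_or_ne i j with rfl | hij
    · exact Commute.refl _
    have hi' := Nat.pow_lt_pow_right (a := 2) (n := 3) (by norm_num) hi
    have hj' := Nat.pow_lt_pow_right (a := 2) (n := 3) (by norm_num) hj
    have hl := C.lift_mul (ha i hi) (ha j hj)
    rw [iIdx_mul hi' hj'] at hl
    have hx := Nat.xor_lt_two_pow (n := 3) hi' hj'
    exact C.comm_of_squares (hsq i hi) (hsq j hj) (C.lift_involution hG hl ((iIdx_spec hx).2.2.2.2
      (fun e => hij (Nat.pow_right_injective le_rfl (Nat.xor_eq_zero_iff.mp e)))) (iIdx_spec hx).2.1)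
  let f : Bool → ℕ → G := fun b j => if b then a j else 1
  have hf : ∀ b c, ∀ i < 3, ∀ j < 3, Commute (f b i) (f c j) := fun b c i hi j hj => by
    cases b <;> cases c <;> simp [f, hpair i hi j hj]
  have hff : ∀ b c, ∀ i < 3, f b i * f c i = f (xor b c) i := fun b c i hi => by
    cases b <;> cases c <;> simp [f, hsq i hi]
  show f _ 0 * f _ 1 * f _ 2 * (f _ 0 * f _ 1 * f _ 2) = f _ 0 * f _ 1 * f _ 2
  simp only [Nat.testBit_xor]
  rw [← hff _ _ 0 (by norm_num), ← hff _ _ 1 (by norm_num), ← hff _ _ 2 (by norm_num)]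
  have c10 := hf (n.testBit 0) (m.testBit 1) 0 (by norm_num) 1 (by norm_num)
  have c20 := hf (n.testBit 0) (m.testBit 2) 0 (by norm_num) 2 (by norm_num)
  have c21 := hf (n.testBit 1) (m.testBit 2) 1 (by norm_num) 2 (by norm_num)
  calc f (m.testBit 0) 0 * f (m.testBit 1) 1 * f (m.testBit 2) 2 * (f (n.testBit 0) 0 * f (n.testBit 1) 1 * f (n.testBit 2) 2)
      = f (m.testBit 0) 0 * f (m.testBit 1) 1 * (f (m.testBit 2) 2 * f (n.testBit 0) 0) *
          f (n.testBit 1) 1 * f (n.testBit 2) 2 := by group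
    _ = f (m.testBit 0) 0 * f (m.testBit 1) 1 * (f (n.testBit 0) 0 * f (m.testBit 2) 2) *
          f (n.testBit 1) 1 * f (n.testBit 2) 2 := by rw [c20.eq]
    _ = f (m.testBit 0) 0 * (f (m.testBit 1) 1 * f (n.testBit 0) 0) * (f (m.testBit 2) 2 * f (n.testBit 1) 1) *
          f (n.testBit 2) 2 := by group
    _ = f (m.testBit 0) 0 * (f (n.testBit 0) 0 * f (m.testBit 1) 1) * (f (n.testBit 1) 1 * f (m.testBit 2) 2) *
          f (n.testBit 2) 2 := by rw [c10.eq, c21.eq]
    _ = _ := by group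

end Ctx

/-- The element with given coordinates. -/
noncomputable def Ctx.coord {z : G} {P : Subgroup G} (C : Ctx z P) (a : ℕ → G) (n : ℕ) : G :=
  zb z (n.testBit 0) * C.sec (dPart n) * frameProd a (n / 128)

namespace Ctx

variable {z : G} {P : Subgroup G} (C : Ctx z P)

include C

theorem coord_mem {a : ℕ → G} (ha : C.IsFrame a) {n : ℕ} (hn : n < 1024) : C.coord a n ∈ C.A10 := by
  refine mul_mem (mul_mem (C.Dt_le ⟨C.zb_mem _, ?_⟩) (C.Dt_le (C.sec_Dt dPart_mem)))
    (C.lift_A10 (show n / 128 < 8 by omega) (C.frameProd_lift ha (by omega)))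
  rw [C.π_zb]; exact zero_mem_spanM _

theorem coord_mul [IsSimpleGroup G] (hG : ¬ IsMulCommutative G) {a : ℕ → G} (ha : C.IsFrame a) {m n : ℕ}
    (hm : m < 1024) (hn : n < 1024) : C.coord a m * C.coord a n = C.coord a (m ^^^ n) := by
  obtain ⟨e1, e2, e3⟩ := split_xor m n
  have hm8 : m / 128 < 8 := by omega
  have hn8 : n / 128 < 8 := by omega
  rw [coord, coord, coord, e1, e2, e3, ← C.frameProd_mul hG ha hm8 hn8, ← C.sec_mul_d1 dPart_mem dPart_mem, ← C.zb_mul]
  have hl := C.lift_A10 hm8 (C.frameProd_lift ha hm8)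
  have hc : ∀ {q : G}, q ∈ C.Dt → Commute (frameProd a (m / 128)) q := fun {q} hq =>
    (mem_centralizer_iff.mp hl q hq).symm
  have c1 : Commute (frameProd a (m / 128)) (zb z (n.testBit 0)) :=
    (C.zb_comm _ (C.A10_le_H hl)).symm
  have c2 := hc (C.sec_Dt (dPart_mem (n := n)))
  have c3 : Commute (C.sec (dPart m)) (zb z (n.testBit 0)) := (C.zb_comm _ (C.le (C.sec_Dt dPart_mem).1)).symm
  calc zb z (m.testBit 0) * C.sec (dPart m) * frameProd a (m / 128) *
        (zb z (n.testBit 0) * C.sec (dPart n) * frameProd a (n / 128))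
      = zb z (m.testBit 0) * C.sec (dPart m) * (frameProd a (m / 128) * (zb z (n.testBit 0) * C.sec (dPart n))) *
          frameProd a (n / 128) := by group
    _ = zb z (m.testBit 0) * C.sec (dPart m) * ((zb z (n.testBit 0) * C.sec (dPart n)) * frameProd a (m / 128)) *
          frameProd a (n / 128) := by rw [(c1.mul_right c2).eq]
    _ = zb z (m.testBit 0) * (C.sec (dPart m) * zb z (n.testBit 0)) * C.sec (dPart n) * frameProd a (m / 128) *
          frameProd a (n / 128) := by group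
    _ = zb z (m.testBit 0) * (zb z (n.testBit 0) * C.sec (dPart m)) * C.sec (dPart n) * frameProd a (m / 128) *
          frameProd a (n / 128) := by rw [c3.eq]
    _ = _ := by group

theorem coord_inj {a : ℕ → G} (ha : C.IsFrame a) {m n : ℕ} (hm : m < 1024) (hn : n < 1024)
    (e : C.coord a m = C.coord a n) : m = n := by
  have hrep : ∀ k < 1024, RepBy C.E C.π (C.coord a k) (elt (iIdx.getD (k / 128) 0)) := fun k hk q hq => by
    have hL := C.frameProd_lift ha (show k / 128 < 8 by omega)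
    have hE : zb z (k.testBit 0) * C.sec (dPart k) ∈ C.E := mul_mem (C.zb_mem _) (C.sec_Dt dPart_mem).1
    rw [coord, C.rep_mul hL.1.1 (C.rep_E hE) hL.2.2 q hq, mv_mm, mv_idM (mv_lt (n := 12) (elt_lt _) _)]
  have h1 := elt_inj (iIdx_spec (show m / 128 < 8 by omega)).1 (iIdx_spec (show n / 128 < 8 by omega)).1
    (C.rep_unique (hrep m hm) (e ▸ hrep n hn))
  have h128 : m / 128 = n / 128 := by
    have hl : iIdx.length = 8 := rfl
    rw [List.getD_eq_getElem _ _ (by omega), List.getD_eq_getElem _ _ (by omega)] at h1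
    exact Ten.iTen_ok.2.1.getElem_inj_iff.mp h1
  rw [coord, coord, h128] at e
  have e2 := mul_right_cancel e
  have e3 := congrArg C.π e2
  rw [C.π_mul _ (C.zb_mem _) _ (C.sec_Dt dPart_mem).1, C.π_mul _ (C.zb_mem _) _ (C.sec_Dt dPart_mem).1, C.π_zb,
    C.π_zb, Nat.zero_xor, Nat.zero_xor, (C.sec_mem (d1_spec dPart_mem).1).2, (C.sec_mem (d1_spec dPart_mem).1).2] at e3
  rw [e3] at e2
  have e4 := mul_right_cancel e2
  have h0 : m.testBit 0 = n.testBit 0 := by
    cases hb : m.testBit 0 <;> cases hc : n.testBit 0 <;> simp only [hb, hc, zb, if_true, Bool.false_eq_true, if_false] at e4 ⊢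
    exacts [absurd e4.symm C.X.ne, absurd e4 C.X.ne]
  have h64 := d1_inj (Nat.mod_lt _ (by norm_num)) (Nat.mod_lt _ (by norm_num)) e3
  have h2 : m % 2 = n % 2 := by
    simp only [Nat.testBit_zero, decide_eq_decide] at h0
    omega
  omega

/-- Fusion of singular elements of the extraspecial group. -/
theorem conj_iff_cls [IsSimpleGroup G] (hG : ¬ IsMulCommutative G) {a : G} (ha : a ∈ C.E) (h0 : C.π a ≠ 0)
    (hq : qB (C.π a) = false) : IsConj z a ↔ cls (C.π a) = 0 := by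
  obtain ⟨-, h0c, h1c⟩ := C.inner_card hG
  obtain ⟨hp0, hp1⟩ := C.part_ncard
  have hsome : ∀ c, c = 0 ∨ c = 1 → ∃ b ∈ C.liftsOf (partW c), cls (C.π b) = c := by
    intro c hc
    obtain ⟨b, hb⟩ : (C.liftsOf (partW c)).Nonempty := Set.nonempty_of_ncard_ne_zero (by
      rcases hc with rfl | rfl
      · rw [hp0]; norm_num
      · rw [hp1]; norm_num)
    exact ⟨b, hb, (mem_partW.mp hb.2).2.2⟩
  have hconj : ∀ c, (c = 0 ∨ c = 1) → cls (C.π a) = c → ∃ b ∈ C.liftsOf (partW c), IsConj a b := by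
    intro c hc e
    obtain ⟨b, hb, eb⟩ := hsome c hc
    obtain ⟨hw, hb0, -⟩ := mem_partW.mp hb.2
    exact ⟨b, hb, C.conj_cls ha hb.1 h0 hb0 hq (W0_spec hw).2.1 (e.trans eb.symm)⟩
  rcases cls_two (C.π a) with e | e
  · obtain ⟨b, hb, hab⟩ := hconj 0 (Or.inl rfl) e
    exact iff_of_true ((h0c b hb).trans hab.symm) e
  · obtain ⟨b, hb, hab⟩ := hconj 1 (Or.inr rfl) e
    exact iff_of_false (fun h => h1c b hb (h.trans hab)) (by omega)

theorem A10_card [IsSimpleGroup G] (hG : ¬ IsMulCommutative G) : Nat.card ↥C.A10 = 2 ^ 10 := by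
  classical
  obtain ⟨a, ha⟩ := C.exists_frame
  have hge : 2 ^ 10 ≤ Nat.card ↥C.A10 := by
    let f : Fin 1024 → ↥C.A10 := fun n => ⟨C.coord a n, C.coord_mem ha n.2⟩
    have hf : Function.Injective f := fun m n e => Fin.ext (C.coord_inj ha m.2 n.2 (congrArg Subtype.val e))
    have := Nat.card_le_card_of_injective f hf
    rw [Nat.card_eq_fintype_card, Fintype.card_fin] at this
    exact le_trans (by norm_num) this
  refine le_antisymm ?_ hge
  obtain ⟨h, hh, hS⟩ := C.to_S C.A10_pgroup C.A10_le_H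
  set K := C.A10.map (MulAut.conj h).toMonoidHom with hK
  have hKS : K ≤ C.S := by rintro _ ⟨x, hx, rfl⟩; exact hS x hx
  have hKc : Nat.card ↥K = Nat.card ↥C.A10 := card_map_of_injective (MulAut.conj h).injective
  have hKE : ∀ e ∈ K ⊓ C.E, ∃ x ∈ C.Dt, h * x * h⁻¹ = e := by
    rintro _ ⟨⟨x, hx, rfl⟩, hE⟩
    refine ⟨x, C.A10_inf_E hx ?_, rfl⟩
    have := C.conj_mem (inv_mem hh) hE
    simpa [mul_assoc] using this
  rcases C.classify hKS (by
      rintro _ ⟨x, hx, rfl⟩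
      rw [← map_mul]
      exact C.conj_mem hh (C.A10_sq hx))
    (by
      rintro _ ⟨y, hy, rfl⟩ e he
      obtain ⟨x, hx, rfl⟩ := hKE e he
      exact Commute.map (show Commute y x from (mem_centralizer_iff.mp hy x hx).symm) (MulAut.conj h).toMonoidHom)
    (hKc ▸ hge) with ⟨-, hW, -⟩ | ⟨B, -, hle, -⟩
  · exfalso
    set l := (spanM d1B).filter fun x => x != 0 && cls x == 1 with hl
    have hlm : ∀ x ∈ l, x ∈ spanM d1B ∧ x ≠ 0 ∧ cls x = 1 := fun x hx => by
      simpa [hl, List.mem_filter] using hx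
    have hc := C.lifts_ncard (l := l) (Ten.d1_ok.2.1.filter _) fun x hx => (d1_spec (hlm x hx).1).1
    rw [Ten.d1_ok.2.2.2.2] at hc
    have hle := Set.ncard_le_ncard_of_injOn (fun x => h * x * h⁻¹) (s := C.liftsOf l)
      (t := {b : G | b ∈ C.V ⊓ C.E ∧ b ≠ 1 ∧ ¬ IsConj z b}) (fun x hx => ?_) (fun x _ y _ e => by simpa using e)
      (Set.toFinite _)
    · rw [hc, (C.inner_card hG).1] at hle
      omega
    · obtain ⟨h1, h2, h3⟩ := hlm _ hx.2
      have hxK : h * x * h⁻¹ ∈ K ⊓ C.E :=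
        ⟨⟨x, C.Dt_le ⟨hx.1, h1⟩, rfl⟩, C.conj_mem hh hx.1⟩
      refine ⟨C.mem_Wt_iff.mpr ⟨hxK.2, hW _ hxK⟩, fun e => h2 ?_, fun e => ?_⟩
      · rw [show x = 1 from by simpa using e, C.π_one]
      · have := e.trans (isConj_iff.mpr ⟨h, rfl⟩ : IsConj x (h * x * h⁻¹)).symm
        rw [C.conj_iff_cls hG hx.1 h2 (d1_spec h1).2.1] at this
        omega
  · exact hKc ▸ hle

theorem coord_surj [IsSimpleGroup G] (hG : ¬ IsMulCommutative G) {a : ℕ → G} (ha : C.IsFrame a) {x : G}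
    (hx : x ∈ C.A10) : ∃ n < 1024, C.coord a n = x := by
  let f : Fin 1024 → ↥C.A10 := fun n => ⟨C.coord a n, C.coord_mem ha n.2⟩
  have hf : Function.Injective f := fun m n e => Fin.ext (C.coord_inj ha m.2 n.2 (congrArg Subtype.val e))
  obtain ⟨n, hn⟩ := ((Nat.bijective_iff_injective_and_card f).mpr
    ⟨hf, by rw [C.A10_card hG, Nat.card_eq_fintype_card, Fintype.card_fin]; norm_num⟩).2 ⟨x, hx⟩
  exact ⟨n, n.2, congrArg Subtype.val hn⟩

theorem coord_zero (a : ℕ → G) : C.coord a 0 = 1 := by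
  simp [coord, zb, frameProd, dPart, mv_zero, C.sec_zero]

theorem A10_elem [IsSimpleGroup G] (hG : ¬ IsMulCommutative G) :
    Cfsg.IsElementaryAbelian 2 C.A10 ∧ centralizer (C.A10 : Set G) = C.A10 := by
  obtain ⟨a, ha⟩ := C.exists_frame
  have hcomm : ∀ x ∈ C.A10, ∀ y ∈ C.A10, x * y = y * x := by
    intro x hx y hy
    obtain ⟨m, hm, rfl⟩ := C.coord_surj hG ha hx
    obtain ⟨n, hn, rfl⟩ := C.coord_surj hG ha hy
    rw [C.coord_mul hG ha hm hn, C.coord_mul hG ha hn hm, Nat.xor_comm]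
  refine ⟨⟨⟨⟨fun x y => Subtype.ext (hcomm x x.2 y y.2)⟩⟩, fun x hx => ?_⟩, le_antisymm (fun x hx => ?_) fun x hx => ?_⟩
  · obtain ⟨m, hm, rfl⟩ := C.coord_surj hG ha hx
    rw [pow_two, C.coord_mul hG ha hm hm, Nat.xor_self, C.coord_zero]
  · exact mem_centralizer_iff.mpr fun q hq => mem_centralizer_iff.mp hx q (C.Dt_le hq)
  · exact mem_centralizer_iff.mpr fun y hy => hcomm y hy x hx

/-- All self-centralising elementary abelian subgroups of order two to the tenth are conjugate. -/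
theorem conj_A10 [IsSimpleGroup G] (hG : ¬ IsMulCommutative G) {A : Subgroup G} (hA : Cfsg.IsElementaryAbelian 2 A)
    (hcard : Nat.card ↥A = 2 ^ 10) (hself : centralizer (A : Set G) = A) :
    ∃ g : G, C.A10 = A.map (MulAut.conj g).toMonoidHom := by
  haveI : Fact (Nat.Prime 2) := ⟨Nat.prime_two⟩
  obtain ⟨T, hT⟩ := C.sylow
  obtain ⟨Q, hQ⟩ := (IsPGroup.of_card hcard).exists_le_sylow
  obtain ⟨g, hg⟩ := MulAction.exists_smul_eq G Q T
  set A' := A.map (MulAut.conj g).toMonoidHom with hA'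
  have hAS : A' ≤ C.S := by
    rintro _ ⟨x, hx, rfl⟩
    have h1 : g * x * g⁻¹ ∈ ((g • Q : Sylow 2 G) : Subgroup G) := by
      rw [Sylow.coe_subgroup_smul]
      exact ⟨x, hQ hx, rfl⟩
    rw [hg] at h1
    exact hT ▸ h1
  have hA'e : Cfsg.IsElementaryAbelian 2 A' := by
    refine ⟨⟨⟨fun a b => Subtype.ext ?_⟩⟩, ?_⟩
    · obtain ⟨x, hx, ex⟩ := a.2
      obtain ⟨y, hy, ey⟩ := b.2
      show (a : G) * b = b * a
      rw [← ex, ← ey, ← map_mul, ← map_mul]
      exact congrArg _ (congrArg Subtype.val (hA.1.is_comm.comm ⟨x, hx⟩ ⟨y, hy⟩))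
    · rintro _ ⟨x, hx, rfl⟩
      rw [← map_pow, hA.2 x hx, map_one]
  have hA'c : Nat.card ↥A' = 2 ^ 10 := (card_map_of_injective (MulAut.conj g).injective).trans hcard
  have hA's : centralizer (A' : Set G) = A' := by
    ext y
    constructor
    · intro hy
      refine ⟨g⁻¹ * y * g, ?_, by show g * (g⁻¹ * y * g) * g⁻¹ = y; group⟩
      rw [SetLike.mem_coe, ← hself]
      refine mem_centralizer_iff.mpr fun x hx => ?_
      have := mem_centralizer_iff.mp hy (g * x * g⁻¹) ⟨x, hx, rfl⟩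
      calc x * (g⁻¹ * y * g) = g⁻¹ * ((g * x * g⁻¹) * y) * g := by group
        _ = g⁻¹ * (y * (g * x * g⁻¹)) * g := by rw [this]
        _ = g⁻¹ * y * g * x := by group
    · rintro ⟨x, hx, rfl⟩
      refine mem_centralizer_iff.mpr ?_
      rintro _ ⟨w, hw, rfl⟩
      rw [← map_mul, ← map_mul]
      exact congrArg _ (congrArg Subtype.val (hA.1.is_comm.comm ⟨w, hw⟩ ⟨x, hx⟩))
  obtain ⟨h, -, hle⟩ := C.conj_le_A10 hA'e hAS hA'c hA's
  refine ⟨h * g, (eq_of_le_of_card_ge ?_ ?_).symm⟩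
  · rintro _ ⟨x, hx, rfl⟩
    show h * g * x * (h * g)⁻¹ ∈ C.A10
    rw [show h * g * x * (h * g)⁻¹ = h * (g * x * g⁻¹) * h⁻¹ by group]
    exact hle _ ⟨x, hx, rfl⟩
  · exact (C.A10_card hG).le.trans (hcard.symm.trans (card_map_of_injective (MulAut.conj (h * g)).injective).symm).le

end Ctx

end Cfsg.Lib.JankoFour
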