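import Cfsg.Agent.JankoFour.TenGroup.Count

/-!
A frame of lifts in the class of the central involution: in its coordinates the class is the standard one.
-/

set_option autoImplicit false
set_option maxRecDepth 100000
set_option maxHeartbeats 1000000
set_option linter.style.haveILetI false
set_option linter.unusedSectionVars false

namespace Cfsg.Lib.JankoFour

open Subgroup
open TenData (d1B iIdx)
open Ten (spanM dPart comms inZf inZs inZ shiftS sig val)

universe u

variable {G : Type u} [Group G] [Finite G]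

theorem iIdx_inj {m n : ℕ} (hm : m < 8) (hn : n < 8) (h : iIdx.getD m 0 = iIdx.getD n 0) : m = n := by
  have hl : iIdx.length = 8 := rfl
  rw [List.getD_eq_getElem _ _ (by omega), List.getD_eq_getElem _ _ (by omega)] at h
  exact Ten.iTen_ok.2.1.getElem_inj_iff.mp h

theorem fI_spec {n : ℕ} (hn : n < 8) (hn0 : n ≠ 0) : (comms n).length = 16 ∧ ((comms n).map Prod.fst).Nodup ∧
    (∀ t ∈ comms n, t.1 ∈ spanM d1B) ∧
    ∀ y < 4096, (xm (elt (iIdx.getD n 0)) y, pB (mv Data.OM y) (xm (elt (iIdx.getD n 0)) y)) ∈ comms n := by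
  obtain ⟨hok, hall, -⟩ := Ten.fI_ok
  simp only [List.all_eq_true, Bool.or_eq_true, List.mem_range, beq_iff_eq, Bool.and_eq_true, decide_eq_true_eq,
    List.contains_iff_mem] at hok hall
  obtain ⟨⟨h1, h2⟩, h3⟩ := (hok n hn).resolve_left hn0
  exact ⟨h1, h2, h3, fun y hy => (hall n hn).resolve_left hn0 y hy⟩

namespace Ctx

variable {z : G} {P : Subgroup G} (C : Ctx z P)

include C

theorem lift_coset {n : ℕ} (hn : n < 8) {l : G} (hl : C.Lift l (iIdx.getD n 0)) : l ∈ C.Coset n :=
  ⟨C.lift_A10 hn hl, hl.2.2⟩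

theorem lift_z {n : ℕ} {l : G} (hl : C.Lift l (iIdx.getD n 0)) : C.Lift (l * z) (iIdx.getD n 0) := by
  refine ⟨C.np_mul hl.1 C.np_z, hl.2.1, fun q hq => ?_⟩
  rw [C.rep_mul (C.le C.X.mem) hl.2.2 (C.rep_E C.X.mem) q hq, mv_mm, mv_idM (C.π_lt q)]

theorem p_coset {n : ℕ} (hn : n < 8) {x : G} (hx : x ∈ C.Zc n) : C.p * x * C.p⁻¹ ∈ C.Zc n := by
  refine ⟨C.conj_coset (Subgroup.mem_inf.mpr ⟨C.p_mem_N, C.pH⟩) C.rep_p (i := n) (j := n) (fun y _ => ?_) hx.1,
    hx.2.trans (isConj_iff.mpr ⟨C.p, rfl⟩)⟩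
  rw [← mv_mm, ← (iIdx_spec hn).2.2.1, mv_mm]

/-- Exactly one of the two lifts lies in the class. -/
theorem lift_one [IsSimpleGroup G] (hG : ¬ IsMulCommutative G) {n : ℕ} (hn : n < 8) (hn0 : n ≠ 0) {l : G}
    (hl : C.Lift l (iIdx.getD n 0)) : IsConj z (l * z) ↔ ¬ IsConj z l := by
  classical
  haveI : Fact (Nat.Prime 3) := ⟨by norm_num⟩
  have hp' : IsPGroup 3 ↥(zpowers C.p) := IsPGroup.of_card (n := 1) (by rw [Nat.card_zpowers, C.ord, pow_one])
  have hpow : ∀ g ∈ zpowers C.p, ∀ x ∈ C.Zc n, g * x * g⁻¹ ∈ C.Zc n := by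
    intro g hg x hx
    rcases pow_three_cases C.ord hg with rfl | rfl | rfl
    · simpa using hx
    · exact C.p_coset hn hx
    · have h2 := C.p_coset hn (C.p_coset hn hx)
      have e : C.p⁻¹ = C.p * C.p := inv_eq_of_mul_eq_one_right (by
        rw [← mul_assoc]
        simpa [pow_succ] using (C.ord ▸ pow_orderOf_eq_one C.p : C.p ^ 3 = 1))
      rw [e]
      rwa [show C.p * C.p * x * (C.p * C.p)⁻¹ = C.p * (C.p * x * C.p⁻¹) * C.p⁻¹ by group]
  letI : MulAction ↥(zpowers C.p) ↥(C.Zc n) :=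
    { smul := fun q x => ⟨(q : G) * x * (q : G)⁻¹, hpow q q.2 x x.2⟩
      one_smul := fun x => Subtype.ext (by
        show ((1 : ↥(zpowers C.p)) : G) * x * ((1 : ↥(zpowers C.p)) : G)⁻¹ = x; simp)
      mul_smul := fun q r x => Subtype.ext (by
        show ((q * r : ↥(zpowers C.p)) : G) * x * ((q * r : ↥(zpowers C.p)) : G)⁻¹ =
          (q : G) * ((r : G) * x * (r : G)⁻¹) * (q : G)⁻¹
        push_cast
        group) }
  have hfix := hp'.card_modEq_card_fixedPoints ↥(C.Zc n)
  have hlp := C.lift_comm_p hn hl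
  have hset : Subtype.val '' MulAction.fixedPoints ↥(zpowers C.p) ↥(C.Zc n) =
      {x : G | (x = l ∨ x = l * z) ∧ IsConj z x} := by
    ext x
    constructor
    · rintro ⟨⟨x, hx⟩, hfx, rfl⟩
      refine ⟨?_, hx.2⟩
      have hpx : C.p * x * C.p⁻¹ = x := congrArg Subtype.val (hfx ⟨C.p, mem_zpowers _⟩)
      have hxH := C.A10_le_H hx.1.1
      have hd := C.rep_quot hxH hl.1.1 hx.1.2 hl.2.2
      have hc : C.p * (l⁻¹ * x) * C.p⁻¹ = l⁻¹ * x := by
        calc C.p * (l⁻¹ * x) * C.p⁻¹ = (C.p * l⁻¹ * C.p⁻¹) * (C.p * x * C.p⁻¹) := by group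
          _ = l⁻¹ * x := by rw [hpx, hlp.inv_left.symm.eq, mul_inv_cancel_right]
      rcases C.fpf _ hd (Or.inl hc) with e | e
      · exact Or.inl (inv_mul_eq_one.mp e).symm
      · exact Or.inr (inv_mul_eq_iff_eq_mul.mp e)
    · rintro ⟨hx, hc⟩
      have hcp : Commute x C.p := by
        rcases hx with rfl | rfl
        · exact hlp
        · exact hlp.mul_left (C.z_comm C.pH).symm
      have hmem : x ∈ C.Zc n := by
        refine ⟨?_, hc⟩
        rcases hx with rfl | rfl
        · exact C.lift_coset hn hl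
        · exact C.lift_coset hn (C.lift_z hl)
      refine ⟨⟨x, hmem⟩, fun q => Subtype.ext ?_, rfl⟩
      show (q : G) * x * (q : G)⁻¹ = x
      obtain ⟨i, hi⟩ := mem_zpowers_iff.mp q.2
      rw [← hi, (hcp.symm.zpow_left i).eq, mul_inv_cancel_right]
  have hz : l ≠ l * z := fun e => C.X.ne (mul_eq_left.mp e.symm)
  rw [Nat.card_coe_set_eq, Nat.card_coe_set_eq, (C.Zc_card hG).2 n hn hn0,
    ← Set.ncard_image_of_injective _ (f := Subtype.val) Subtype.val_injective, hset] at hfix
  by_cases h1 : IsConj z l <;> by_cases h2 : IsConj z (l * z)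
  · exfalso
    rw [show {x : G | (x = l ∨ x = l * z) ∧ IsConj z x} = {l, l * z} by
      ext x; simp only [Set.mem_setOf_eq, Set.mem_insert_iff, Set.mem_singleton_iff]
      exact ⟨fun h => h.1, fun h => ⟨h, by rcases h with rfl | rfl <;> assumption⟩⟩, Set.ncard_pair hz] at hfix
    exact absurd hfix (by decide)
  · exact iff_of_false h2 (fun h => h h1)
  · exact iff_of_true h2 h1
  · exfalso
    rw [show {x : G | (x = l ∨ x = l * z) ∧ IsConj z x} = ∅ by
      ext x; simp only [Set.mem_setOf_eq, Set.mem_empty_iff_false, iff_false, not_and]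
      rintro (rfl | rfl) <;> assumption, Set.ncard_empty] at hfix
    exact absurd hfix (by decide)

/-- The class in an outer coset from a lift in it. -/
theorem Zc_form [IsSimpleGroup G] (hG : ¬ IsMulCommutative G) {n : ℕ} (hn : n < 8) (hn0 : n ≠ 0) {l : G}
    (hl : C.Lift l (iIdx.getD n 0)) (hc : IsConj z l) :
    C.Zc n = (fun t : ℕ × Bool => zb z t.2 * C.sec t.1 * l) '' ((comms n).toFinset : Set (ℕ × Bool)) := by
  classical
  obtain ⟨h16, -, -, hall⟩ := fI_spec hn hn0
  have hl2 : l * l = 1 := C.lift_involution hG hl ((iIdx_spec hn).2.2.2.2 hn0) (iIdx_spec hn).2.1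
  set O : Set G := {y : G | ∃ e ∈ C.E, e * l * e⁻¹ = y}
  set F := (fun t : ℕ × Bool => zb z t.2 * C.sec t.1 * l) '' ((comms n).toFinset : Set (ℕ × Bool))
  have h1 : O ⊆ C.Zc n := by
    rintro _ ⟨e, he, rfl⟩
    exact ⟨C.coset_E he (C.lift_coset hn hl), hc.trans (isConj_iff.mpr ⟨e, rfl⟩)⟩
  have h2 : O ⊆ F := by
    rintro _ ⟨e, he, rfl⟩
    exact ⟨_, Finset.mem_coe.mpr (List.mem_toFinset.mpr (hall _ (C.π_lt e))), (C.conj_lift hn hl hl2 he).symm⟩
  have hO := C.orbit_big hn hn0 (C.lift_coset hn hl)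
  have e1 : O = C.Zc n := Set.eq_of_subset_of_ncard_le h1 (by rw [(C.Zc_card hG).2 n hn hn0]; exact hO) (Set.toFinite _)
  have e2 : O = F := Set.eq_of_subset_of_ncard_le h2 (by
    refine ((Set.ncard_image_le (Set.toFinite _)).trans ?_).trans hO
    rw [Set.ncard_coe_finset]
    exact (List.toFinset_card_le _).trans h16.le) (Set.toFinite _)
  rw [← e1, e2]

theorem zb_shift {l : G} (hl : l ∈ centralizer ({z} : Set G)) (s : Bool) : l * zb z s = zb z s * l :=
  (C.zb_comm s hl).eq.symm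

/-- The class in coordinates, up to the signs of four products. -/
theorem exists_param [IsSimpleGroup G] (hG : ¬ IsMulCommutative G) :
    ∃ a : ℕ → G, C.IsFrame a ∧ ∃ b < 16, ∀ k < 1024, (IsConj z (C.coord a k) ↔ inZs b k = true) := by
  classical
  obtain ⟨a0, ha0⟩ := C.exists_frame
  have hp : ∀ j < 3, 2 ^ j < 8 := fun j hj => Nat.pow_lt_pow_right (a := 2) (n := 3) (by norm_num) hj
  let a : ℕ → G := fun j => if IsConj z (a0 j) then a0 j else a0 j * z
  have ha : C.IsFrame a := fun j hj => by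
    simp only [a]
    split
    exacts [ha0 j hj, C.lift_z (ha0 j hj)]
  have haZ : ∀ j < 3, IsConj z (a j) := fun j hj => by
    simp only [a]
    split
    next h => exact h
    next h => exact (C.lift_one hG (hp j hj) (by simp) (ha0 j hj)).mpr h
  let σ : ℕ → Bool := fun m => !decide (IsConj z (frameProd a m))
  have hσb : ∀ m < 8, m = 1 ∨ m = 2 ∨ m = 4 → σ m = false := by
    intro m _ hm
    have hf : ∀ j < 3, frameProd a (2 ^ j) = a j := fun j hj => by
      interval_cases j <;> simp [frameProd, Nat.testBit_eq_decide_div_mod_eq]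
    have hd : ∀ j < 3, σ (2 ^ j) = false := fun j hj => by
      show (!decide (IsConj z (frameProd a (2 ^ j)))) = false
      rw [hf j hj, decide_eq_true (haZ j hj)]; rfl
    rcases hm with rfl | rfl | rfl
    exacts [hd 0 (by norm_num), hd 1 (by norm_num), hd 2 (by norm_num)]
  obtain ⟨b, hb, hsig⟩ : ∃ b < 16, ∀ m < 8, m ≠ 0 → (sig b).getD m false = σ m := by
    have key : ∀ s3 s5 s6 s7 : Bool, ∃ b < 16, sig b = [false, false, false, s3, false, s5, s6, s7] := by decide +kernel
    obtain ⟨b, hb, e⟩ := key (σ 3) (σ 5) (σ 6) (σ 7)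
    refine ⟨b, hb, fun m hm hm0 => ?_⟩
    rw [e]
    interval_cases m
    exacts [absurd rfl hm0, (hσb 1 (by norm_num) (by norm_num)).symm, (hσb 2 (by norm_num) (by norm_num)).symm, rfl,
      (hσb 4 (by norm_num) (by norm_num)).symm, rfl, rfl, rfl]
  refine ⟨a, ha, b, hb, fun k hk => ?_⟩
  have hz := Ten.z_mask.1
  simp only [List.all_eq_true, List.mem_range, beq_iff_eq] at hz
  have hshift : shiftS b k < 1024 := by
    unfold shiftS
    split
    exacts [Nat.xor_lt_two_pow (n := 10) hk (by norm_num), hk]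
  rw [inZs, ← hz _ hshift]
  by_cases h0 : k / 128 = 0
  · have hs0 : (sig b).getD (k / 128) false = false := by rw [h0]; rfl
    rw [shiftS, hs0, if_neg Bool.false_ne_true]
    exact C.inner_conj hG a (by omega)
  set n := k / 128 with hn
  have hn8 : n < 8 := by omega
  set l := frameProd a n with hldef
  have hl := C.frameProd_lift ha hn8
  have hlA := C.lift_A10 hn8 hl
  have hlH := C.A10_le_H hlA
  set l' := l * zb z (σ n) with hl'def
  have hl' : C.Lift l' (iIdx.getD n 0) := by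
    rw [hl'def]
    cases σ n
    · simpa [zb] using hl
    · exact C.lift_z hl
  have hl'Z : IsConj z l' := by
    rw [hl'def]
    by_cases hcl : IsConj z l
    · have e : σ n = false := by
        show (!decide (IsConj z l)) = false
        rw [decide_eq_true hcl]; rfl
      rw [e]; simpa [zb] using hcl
    · have e : σ n = true := by
        show (!decide (IsConj z l)) = true
        rw [decide_eq_false hcl]; rfl
      rw [e]; exact (C.lift_one hG hn8 h0 hl).mpr hcl
  have hcoord : C.coord a k = zb z (xor (k.testBit 0) (σ n)) * C.sec (dPart k) * l' := by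
    rw [hl'def, coord, ← hn, ← hldef, ← C.zb_mul, C.zb_shift hlH]
    have hs : Commute (zb z (σ n)) (C.sec (dPart k)) := C.zb_comm _ (C.le (C.sec_Dt dPart_mem).1)
    calc zb z (k.testBit 0) * C.sec (dPart k) * l
        = zb z (k.testBit 0) * C.sec (dPart k) * (zb z (σ n) * zb z (σ n)) * l := by
          rw [C.zb_mul]
          simp [zb]
      _ = zb z (k.testBit 0) * (C.sec (dPart k) * zb z (σ n)) * (zb z (σ n) * l) := by group
      _ = _ := by rw [← hs.eq, hldef]; group
  obtain ⟨-, hnd, hsp, -⟩ := fI_spec hn8 h0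
  have hiff : IsConj z (C.coord a k) ↔ (dPart k, xor (k.testBit 0) (σ n)) ∈ comms n := by
    constructor
    · intro h
      have hm : C.coord a k ∈ C.Zc n := ⟨⟨C.coord_mem ha hk, by rw [hn]; exact C.coord_rep ha hk⟩, h⟩
      rw [C.Zc_form hG hn8 h0 hl' hl'Z] at hm
      obtain ⟨⟨x, s⟩, hxs, e⟩ := hm
      have hxs' : (x, s) ∈ comms n := List.mem_toFinset.mp (Finset.mem_coe.mp hxs)
      have e' : zb z s * C.sec x = zb z (xor (k.testBit 0) (σ n)) * C.sec (dPart k) :=
        mul_right_cancel (e.trans hcoord)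
      have hx4 := (d1_spec (hsp _ hxs')).1
      have e2 := congrArg C.π e'
      rw [C.π_mul _ (C.zb_mem _) _ (C.sec_mem hx4).1, C.π_mul _ (C.zb_mem _) _ (C.sec_Dt dPart_mem).1, C.π_zb, C.π_zb,
        Nat.zero_xor, Nat.zero_xor, (C.sec_mem hx4).2, (C.sec_mem (d1_spec dPart_mem).1).2] at e2
      subst e2
      have e3 := mul_right_cancel e'
      have hs : s = xor (k.testBit 0) (σ n) := by
        cases s <;> cases hbb : xor (k.testBit 0) (σ n) <;> rw [hbb] at e3 <;>
          simp only [zb, if_true, Bool.false_eq_true, if_false] at e3 ⊢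
        exacts [absurd e3.symm C.X.ne, absurd e3 C.X.ne]
      exact hs ▸ hxs'
    · intro h
      have hm : zb z (xor (k.testBit 0) (σ n)) * C.sec (dPart k) * l' ∈ C.Zc n := by
        rw [C.Zc_form hG hn8 h0 hl' hl'Z]
        exact ⟨_, Finset.mem_coe.mpr (List.mem_toFinset.mpr h), rfl⟩
      rw [hcoord]
      exact hm.2
  rw [hiff]
  have hsn : (sig b).getD (k / 128) false = σ n := by rw [← hn]; exact hsig n hn8 h0
  obtain ⟨e1, e2, e3⟩ := split_xor k 1
  have hd1 : dPart 1 = 0 := by decide +kernel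
  have hsh : shiftS b k / 128 = n ∧ dPart (shiftS b k) = dPart k ∧ (shiftS b k).testBit 0 = xor (k.testBit 0) (σ n) := by
    rw [shiftS, hsn]
    cases σ n
    · simp [hn]
    · rw [if_pos rfl, e1, e2, e3, hd1]
      simp [hn]
  rw [Ten.inZf, hsh.1, hsh.2.1, hsh.2.2]
  simp [h0]

end Ctx

end Cfsg.Lib.JankoFour
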