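import Mathlib.LinearAlgebra.Matrix.GeneralLinearGroup.Card
import Mathlib.LinearAlgebra.Matrix.SpecialLinearGroup
import Mathlib.GroupTheory.GroupAction.Quotient
import Cfsg.Agent.JankoFour.TenGroup.GroupChecks
import Cfsg.Agent.JankoFour.TenGroup.Sections

/-!
The group of linear maps of the module of dimension ten preserving the class of the central involution is the special
linear group acting on bivectors.
-/

set_option autoImplicit false
set_option maxRecDepth 100000
set_option maxHeartbeats 1000000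
set_option linter.style.haveILetI false

namespace Cfsg.Lib.JankoFour.Ten

open TenData (chainB toA toW)
open Cfsg.Lib.JankoFour (mv mv_xor mv_zero mv_lt lin_ext)

/-- The sum of two coordinates. -/
def fx (a b : Fin 1024) : Fin 1024 := ⟨a.1 ^^^ b.1, Nat.xor_lt_two_pow (n := 10) a.2 b.2⟩

/-- The linear permutations preserving the class. -/
def XG : Subgroup (Equiv.Perm (Fin 1024)) where
  carrier := {σ | (∀ a b, σ (fx a b) = fx (σ a) (σ b)) ∧ ∀ a, inZ (σ a).1 = inZ a.1}
  one_mem' := ⟨fun _ _ => rfl, fun _ => rfl⟩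
  mul_mem' := by
    rintro σ τ ⟨h1, h2⟩ ⟨h3, h4⟩
    exact ⟨fun a b => by simp only [Equiv.Perm.mul_apply, h3, h1], fun a => by simp only [Equiv.Perm.mul_apply, h2, h4]⟩
  inv_mem' := by
    rintro σ ⟨h1, h2⟩
    refine ⟨fun a b => σ.injective ?_, fun a => ?_⟩
    · rw [h1]; simp
    · have := h2 (σ⁻¹ a)
      simp only [Equiv.Perm.inv_def, Equiv.apply_symm_apply] at this
      exact this.symm

theorem XG_zero {σ : Equiv.Perm (Fin 1024)} (h : σ ∈ XG) : σ 0 = 0 := by
  have e := h.1 0 0
  rw [show fx 0 0 = 0 from rfl] at e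
  rw [e]
  exact Fin.ext (Nat.xor_self _)

/-- The first base points. -/
def pre (k : ℕ) : List ℕ := (chainB.take k).map Prod.fst

/-- The base point with given number. -/
def basePt (k : ℕ) : ℕ := (chainB.getD k (0, 0)).1

theorem fix_span {σ : Equiv.Perm (Fin 1024)} (h : σ ∈ XG) {B : List ℕ}
    (hB : ∀ b ∈ B, b < 1024 ∧ ∀ a : Fin 1024, a.1 = b → σ a = a) :
    ∀ (n : ℕ) (a : Fin 1024), a.1 = mv B n → σ a = a := by
  induction B with
  | nil =>
    intro n a ha
    rw [show a = 0 from Fin.ext (by simpa [mv] using ha)]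
    exact XG_zero h
  | cons b r ih =>
    intro n a ha
    have hlt : mv r (n / 2) < 1024 := mv_lt (n := 10) (fun m hm => (hB m (List.mem_cons_of_mem _ hm)).1) _
    have hr := ih (fun c hc => hB c (List.mem_cons_of_mem _ hc)) (n / 2) ⟨_, hlt⟩ rfl
    have hb := hB b List.mem_cons_self
    simp only [mv] at ha
    by_cases hn : n % 2 = 1
    · have e : a = fx ⟨b, hb.1⟩ ⟨_, hlt⟩ := Fin.ext (by simp [fx, ha, hn])
      rw [e, h.1, hb.2 ⟨b, hb.1⟩ rfl, hr]
    · have e : a = ⟨_, hlt⟩ := Fin.ext (by simp [ha, hn])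
      rw [e, hr]

/-- The pointwise stabiliser of the first base points. -/
def fixK (k : ℕ) : Subgroup (Equiv.Perm (Fin 1024)) where
  carrier := {σ | σ ∈ XG ∧ ∀ j < k, ∀ a : Fin 1024, a.1 = basePt j → σ a = a}
  one_mem' := ⟨one_mem _, fun _ _ _ _ => rfl⟩
  mul_mem' := by
    rintro σ τ ⟨h1, h2⟩ ⟨h3, h4⟩
    exact ⟨mul_mem h1 h3, fun j hj a ha => by rw [Equiv.Perm.mul_apply, h4 j hj a ha, h2 j hj a ha]⟩
  inv_mem' := by
    rintro σ ⟨h1, h2⟩
    exact ⟨inv_mem h1, fun j hj a ha => Equiv.Perm.inv_eq_iff_eq.mpr (h2 j hj a ha).symm⟩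

theorem chain_spec {k : ℕ} (hk : k < 10) : basePt k < 1024 ∧ ¬ basePt k ∈ spanM (pre k) ∧
    (baseCand (pre k) (basePt k)).length = (chainB.getD k (0, 0)).2 := by
  have h := chain_base.2.1
  simp only [List.all_eq_true, List.mem_range, Bool.and_eq_true, decide_eq_true_eq, Bool.not_eq_true',
    List.contains_eq_mem, decide_eq_false_iff_not, beq_iff_eq] at h
  exact ⟨(h k hk).1.1, (h k hk).1.2, (h k hk).2⟩

theorem pre_mem {k : ℕ} {b : ℕ} (hb : b ∈ pre k) : ∃ j < k, j < 10 ∧ basePt j = b := by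
  obtain ⟨⟨b', c⟩, hm, rfl⟩ := List.mem_map.mp hb
  obtain ⟨j, hj, e⟩ := List.getElem_of_mem hm
  rw [List.length_take] at hj
  have hl := chain_base.1
  refine ⟨j, by omega, by omega, ?_⟩
  rw [List.getElem_take] at e
  rw [basePt, List.getD_eq_getElem _ _ (by omega), e]

theorem step_le {k : ℕ} (hk : k < 10) :
    Nat.card ↥(fixK k) ≤ (chainB.getD k (0, 0)).2 * Nat.card ↥(fixK (k + 1)) := by
  classical
  obtain ⟨hlt, hns, hlen⟩ := chain_spec hk
  set a : Fin 1024 := ⟨basePt k, hlt⟩ with ha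
  letI : MulAction ↥(fixK k) (Fin 1024) := MulAction.compHom _ (fixK k).subtype
  have hst : MulAction.stabilizer ↥(fixK k) a = (fixK (k + 1)).subgroupOf (fixK k) := by
    ext ⟨σ, hσ⟩
    rw [MulAction.mem_stabilizer_iff, Subgroup.mem_subgroupOf]
    show σ a = a ↔ σ ∈ fixK (k + 1)
    constructor
    · intro h
      refine ⟨hσ.1, fun j hj b hb => ?_⟩
      rcases eq_or_lt_of_le (Nat.lt_succ_iff.mp hj) with rfl | hj'
      · rw [show b = a from Fin.ext hb, h]
      · exact hσ.2 j hj' b hb
    · exact fun h => h.2 k (Nat.lt_succ_self k) a rfl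
  have hle : fixK (k + 1) ≤ fixK k := fun σ h => ⟨h.1, fun j hj => h.2 j (by omega)⟩
  have h := (MulAction.stabilizer ↥(fixK k) a).card_mul_index
  rw [MulAction.index_stabilizer, hst, Nat.card_congr (Subgroup.subgroupOfEquivOfLe hle).toEquiv] at h
  rw [← h, mul_comm]
  refine Nat.mul_le_mul_right _ ?_
  rw [← hlen, ← Set.ncard_image_of_injective (MulAction.orbit ↥(fixK k) a) Fin.val_injective]
  refine le_trans (Set.ncard_le_ncard (t := ((baseCand (pre k) (basePt k)).toFinset : Set ℕ)) ?_ (Set.toFinite _))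
    (by rw [Set.ncard_coe_finset]; exact List.toFinset_card_le _)
  rintro _ ⟨_, ⟨⟨σ, hσ⟩, rfl⟩, rfl⟩
  show (σ a).1 ∈ ((baseCand (pre k) (basePt k)).toFinset : Set ℕ)
  simp only [List.coe_toFinset, Set.mem_setOf_eq, baseCand, List.mem_filter, List.mem_range, List.all_eq_true,
    Bool.and_eq_true, beq_iff_eq, bne_iff_ne]
  refine ⟨(σ a).2, fun s hs => ?_⟩
  have hm : mv (pre k) s < 1024 := mv_lt (n := 10) (fun m hm => by
    obtain ⟨j, -, hj, rfl⟩ := pre_mem hm
    exact (chain_spec hj).1) s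
  have hfix : σ ⟨_, hm⟩ = ⟨_, hm⟩ := fix_span hσ.1 (B := pre k) (fun b hb => by
    obtain ⟨j, hj, hj', rfl⟩ := pre_mem hb
    exact ⟨(chain_spec hj').1, hσ.2 j hj⟩) s _ rfl
  have he : fx (σ a) ⟨_, hm⟩ = σ (fx a ⟨_, hm⟩) := by rw [hσ.1.1, hfix]
  refine ⟨?_, ?_⟩
  · exact (congrArg (fun x : Fin 1024 => inZ x.1) he).trans (hσ.1.2 _)
  · intro e
    have h0 : σ (fx a ⟨_, hm⟩) = σ 0 := by
      rw [← he, XG_zero hσ.1]
      exact Fin.ext e
    have h1 := congrArg Fin.val (σ.injective h0)
    exact hns (List.mem_map.mpr ⟨s, List.mem_range.mpr hs, (Nat.xor_eq_zero_iff.mp h1).symm⟩)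

theorem fixK_ten : fixK 10 = ⊥ := by
  refine (Subgroup.eq_bot_iff_forall _).mpr fun σ hσ => Equiv.ext fun a => ?_
  show σ a = a
  have hspan : ∀ x < 1024, x ∈ spanM (pre 10) := by
    intro x hx
    have h := base_span
    simp only [List.all_eq_true, List.mem_range, List.contains_iff_mem] at h
    have hpre : pre 10 = chainB.map Prod.fst := by
      rw [pre, List.take_of_length_le (le_of_eq chain_base.1)]
    rw [hpre]
    have hgen : ∀ n, n ≤ 10 → ∀ x < 2 ^ n, x ∈ spanM (chainB.map Prod.fst) := by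
      intro n
      induction n with
      | zero =>
        intro _ x hx
        rw [show x = 0 by simpa using hx]
        exact Cfsg.Lib.JankoFour.zero_mem_spanM _
      | succ n ih =>
        intro hn x hx
        by_cases hxn : x < 2 ^ n
        · exact ih (by omega) x hxn
        · have hb : (x ^^^ 2 ^ n) < 2 ^ n := by
            refine Nat.lt_pow_two_of_testBit _ fun i hi => ?_
            rw [Nat.testBit_xor, Nat.testBit_two_pow]
            rcases eq_or_lt_of_le hi with rfl | hi'
            · have : x.testBit n = true := by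
                rw [Nat.testBit_eq_decide_div_mod_eq, decide_eq_true_eq]
                have h1 : x / 2 ^ n = 1 := Nat.div_eq_of_lt_le (by omega) (by rw [pow_succ] at hx; omega)
                rw [h1]
              simp [this]
            · rw [Nat.testBit_lt_two_pow (lt_of_lt_of_le hx (Nat.pow_le_pow_right two_pos hi'))]
              simp [show n ≠ i by omega]
          have := Cfsg.Lib.JankoFour.spanM_xor (h n (by omega)) (ih (by omega) _ hb)
          rwa [Nat.xor_comm x (2 ^ n), ← Nat.xor_assoc, Nat.xor_self, Nat.zero_xor] at this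
    exact hgen 10 le_rfl x (by simpa using hx)
  obtain ⟨n, -, hn⟩ := Cfsg.Lib.JankoFour.mem_spanM.mp (hspan a.1 a.2)
  refine fix_span hσ.1 (B := pre 10) (fun b hb => ?_) n a hn.symm
  obtain ⟨j, hj, hj', rfl⟩ := pre_mem hb
  exact ⟨(chain_spec hj').1, hσ.2 j hj⟩

theorem XG_card_le : Nat.card ↥XG ≤ 9999360 := by
  have h0 : fixK 0 = XG := le_antisymm (fun σ h => h.1) fun σ h => ⟨h, fun j hj => absurd hj (Nat.not_lt_zero j)⟩
  have hl := chain_base.1
  have hind : ∀ m, m ≤ 10 → Nat.card ↥(fixK (10 - m)) ≤ ((chainB.map Prod.snd).drop (10 - m)).prod := by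
    intro m
    induction m with
    | zero =>
      intro _
      rw [fixK_ten, Subgroup.card_bot, List.drop_of_length_le (by rw [List.length_map, hl])]
      rfl
    | succ m ih =>
      intro hm
      have hk : 10 - (m + 1) < 10 := by omega
      refine (step_le hk).trans ?_
      rw [List.drop_eq_getElem_cons (by rw [List.length_map, hl]; omega), List.prod_cons, List.getElem_map,
        List.getD_eq_getElem _ _ (by omega), show 10 - (m + 1) + 1 = 10 - m by omega]
      exact Nat.mul_le_mul_left _ (ih (by omega))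
  have := hind 10 le_rfl
  rwa [Nat.sub_self, h0, List.drop_zero, chain_base.2.2] at this

end Cfsg.Lib.JankoFour.Ten
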