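import Cfsg.Agent.JankoFour.TenGroup.Action
import Cfsg.Agent.JankoFour.TenGroup.Complement
import Cfsg.Agent.S0051

/-!
The normaliser of a self-centralising elementary abelian subgroup of order two to the tenth in a group of Janko-four
type.
-/

set_option autoImplicit false
set_option maxRecDepth 100000
set_option maxHeartbeats 1000000
set_option linter.style.haveILetI false
set_option linter.unusedSectionVars false

namespace Cfsg.Lib.JankoFour

open Subgroup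
open TenData (orbReps zBasis orbSum)
open Ten (inZ XG)

universe u

variable {G : Type u} [Group G] [Finite G]

namespace Ctx

variable {z : G} {P : Subgroup G} (C : Ctx z P)

include C

/-- The split extension. -/
theorem exists_split [IsSimpleGroup G] (hG : ¬ IsMulCommutative G) :
    ∃ B : Subgroup G, B ≤ normalizer (C.A10 : Set G) ∧ B ⊓ C.A10 = ⊥ ∧ B ⊔ C.A10 = normalizer (C.A10 : Set G) ∧
      Nonempty (↥B ≃* Matrix.SpecialLinearGroup (Fin 5) (ZMod 2)) := by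
  classical
  obtain ⟨a, φ₀, -, -, hφ₀, hker₀, -⟩ := C.exists_automiser hG
  obtain ⟨K, hK₀, hKA₀, hKc⟩ := C.exists_partial_complement hG
  suffices h : ∀ (N A : Subgroup G) (φ : ↥N →* ↥XG), A = C.A10 → Function.Surjective φ → φ.ker = A.subgroupOf N →
      A ≤ N → K ≤ C.S ⊓ N → K ⊓ A = ⊥ →
      ∃ B : Subgroup G, B ≤ N ∧ B ⊓ A = ⊥ ∧ B ⊔ A = N ∧ Nonempty (↥B ≃* Matrix.SpecialLinearGroup (Fin 5) (ZMod 2)) from
    h _ _ φ₀ rfl hφ₀ hker₀ le_normalizer hK₀ hKA₀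
  intro N A φ hA hφ hker hAN hK hKA
  have hKN : K ≤ N := hK.trans inf_le_right
  haveI hn : (A.subgroupOf N).Normal := hker ▸ inferInstance
  haveI hcm : IsMulCommutative ↥(A.subgroupOf N) := by
    refine ⟨⟨fun x y => Subtype.ext (Subtype.ext ?_)⟩⟩
    have hx : ((x : ↥N) : G) ∈ C.A10 := hA ▸ mem_subgroupOf.mp x.2
    have hy : ((y : ↥N) : G) ∈ C.A10 := hA ▸ mem_subgroupOf.mp y.2
    simp only [Subgroup.coe_mul]
    exact congrArg Subtype.val ((C.A10_elem hG).1.1.is_comm.comm ⟨_, hx⟩ ⟨_, hy⟩)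
  have hAc : Nat.card ↥A = 2 ^ 10 := hA ▸ C.A10_card hG
  have hNc : Nat.card ↥N = 1024 * 9999360 := by
    have h := φ.ker.card_mul_index
    rw [index_ker, hker, Nat.card_congr (subgroupOfEquivOfLe hAN).toEquiv, hAc,
      MonoidHom.range_eq_top.mpr hφ, Subgroup.card_top, Ten.XG_card] at h
    rw [← h]
    norm_num
  have hAS : A ≤ C.S := by
    intro x hx
    rw [hA] at hx
    obtain ⟨fr, hfr⟩ := C.exists_frame
    obtain ⟨m, hm, rfl⟩ := C.coord_surj hG hfr hx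
    exact C.mem_S.mpr ⟨C.A10_le_H (C.coord_mem hfr hm), _, (iIdx_spec (show m / 128 < 8 by omega)).1, C.coord_rep hfr hm⟩
  set U := A ⊔ K with hU
  have hUS : U ≤ C.S := sup_le hAS (hK.trans inf_le_left)
  have hUN : U ≤ N := sup_le hAN hKN
  have hUc : 2 ^ 20 ≤ Nat.card ↥U := by
    let f : ↥A × ↥K → ↥U := fun t => ⟨t.1 * t.2, mul_mem_sup t.1.2 t.2.2⟩
    have hf : Function.Injective f := by
      rintro ⟨v, k⟩ ⟨v', k'⟩ e
      have e' : (v : G) * k = v' * k' := congrArg Subtype.val e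
      have h1 : (v' : G)⁻¹ * v = k' * (k : G)⁻¹ := by
        rw [eq_mul_inv_iff_mul_eq, mul_assoc, e', inv_mul_cancel_left]
      have h2 : (v' : G)⁻¹ * v ∈ K ⊓ A :=
        Subgroup.mem_inf.mpr ⟨h1 ▸ mul_mem k'.2 (inv_mem k.2), mul_mem (inv_mem v'.2) v.2⟩
      rw [hKA, mem_bot] at h2
      rw [h2, eq_comm, mul_inv_eq_one] at h1
      exact Prod.ext (Subtype.ext (inv_mul_eq_one.mp h2).symm) (Subtype.ext h1.symm)
    have h := Nat.card_le_card_of_injective f hf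
    rw [Nat.card_prod, hAc] at h
    exact le_trans (le_trans (by norm_num) (Nat.mul_le_mul_left (2 ^ 10) hKc)) h
  obtain ⟨k, -, hk⟩ := (Nat.dvd_prime_pow Nat.prime_two).mp (C.card_S ▸ card_dvd_of_le hUS)
  have hidx : (A.subgroupOf N).index = 9999360 := by
    have h := (A.subgroupOf N).card_mul_index
    rw [Nat.card_congr (subgroupOfEquivOfLe hAN).toEquiv, hAc, hNc] at h
    omega
  have hk20 : k = 20 := by
    have h1 : 20 ≤ k := (Nat.pow_le_pow_iff_right one_lt_two).mp (hk ▸ hUc)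
    have h2 : 2 ^ k ∣ 1024 * 9999360 := hNc ▸ hk ▸ card_dvd_of_le hUN
    by_contra hne
    have h3 : 2 ^ 21 ∣ 1024 * 9999360 := dvd_trans (pow_dvd_pow 2 (by omega)) h2
    norm_num at h3
  have hidxU : (U.subgroupOf N).index = 9765 := by
    have h := (U.subgroupOf N).card_mul_index
    rw [Nat.card_congr (subgroupOfEquivOfLe hUN).toEquiv, hk, hk20, hNc] at h
    omega
  obtain ⟨H, hH⟩ := Cfsg.Agent.S0051.result (A.subgroupOf N) (U.subgroupOf N) (fun v hv => mem_subgroupOf.mpr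
      (le_sup_left (b := K) (mem_subgroupOf.mp hv))) (by
      rw [Nat.card_congr (subgroupOfEquivOfLe hAN).toEquiv, hAc, hidxU]
      exact Nat.Coprime.pow_left _ (by norm_num)) (K.subgroupOf N)
    (fun x hx => mem_subgroupOf.mpr (le_sup_right (a := A) (mem_subgroupOf.mp hx)))
    ((eq_bot_iff_forall _).mpr fun x hx => Subtype.ext (mem_bot.mp (hKA ▸ (⟨hx.1, hx.2⟩ : (x : G) ∈ K ⊓ A))))
    (by rw [← subgroupOf_sup hAN hKN])
  refine ⟨H.map N.subtype, map_subtype_le H, (eq_bot_iff_forall _).mpr ?_, ?_, ?_⟩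
  · rintro _ ⟨⟨x, hx, rfl⟩, hxA⟩
    have : x ∈ A.subgroupOf N ⊓ H := ⟨hxA, hx⟩
    rw [hH.disjoint.eq_bot, mem_bot] at this
    rw [this]; rfl
  · refine le_antisymm (sup_le (map_subtype_le H) hAN) fun x hx => ?_
    obtain ⟨⟨v, h⟩, e, -⟩ := isComplement_iff_existsUnique.mp hH ⟨x, hx⟩
    rw [show x = ((v : ↥N) : G) * ((h : ↥N) : G) from (congrArg Subtype.val e).symm, sup_comm]
    exact mul_mem_sup v.2 ⟨_, h.2, rfl⟩
  · refine ⟨(H.equivMapOfInjective _ N.subtype_injective).symm.trans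
      ((MulEquiv.ofBijective (φ.comp H.subtype) ⟨?_, fun m => ?_⟩).trans Ten.slEquiv.symm)⟩
    · rw [← MonoidHom.ker_eq_bot_iff, eq_bot_iff_forall]
      intro x hx
      have : (x : ↥N) ∈ A.subgroupOf N ⊓ H := ⟨hker ▸ (hx : φ x = 1), x.2⟩
      rw [hH.disjoint.eq_bot, mem_bot] at this
      exact Subtype.ext this
    · obtain ⟨n, rfl⟩ := hφ m
      obtain ⟨⟨v, h⟩, e, -⟩ := isComplement_iff_existsUnique.mp hH n
      refine ⟨h, ?_⟩
      have hv : φ (v : ↥N) = 1 := MonoidHom.mem_ker.mp (hker.symm ▸ v.2)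
      show φ h = φ n
      rw [← show (v : ↥N) * h = n from e, map_mul, hv, one_mul]

/-- The two orbits. -/
theorem orbit_sizes [IsSimpleGroup G] (hG : ¬ IsMulCommutative G) : ∃ x ∈ C.A10, ∃ y ∈ C.A10,
    Set.ncard {v : G | ∃ n ∈ normalizer (C.A10 : Set G), n * x * n⁻¹ = v} = 155 ∧
    Set.ncard {v : G | ∃ n ∈ normalizer (C.A10 : Set G), n * y * n⁻¹ = v} = 868 := by
  classical
  obtain ⟨a, φ, ha, -, hφ, -, hact⟩ := C.exists_automiser hG
  have horb : ∀ r : Fin 1024, r.1 ≠ 0 →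
      Set.ncard {v : G | ∃ n ∈ normalizer (C.A10 : Set G), n * C.coord a r.1 * n⁻¹ = v} =
        ((List.range 1024).filter fun k => k != 0 && (inZ k == inZ r.1)).length := by
    intro r hr
    rw [← List.toFinset_card_of_nodup (List.nodup_range.filter _), ← Set.ncard_coe_finset,
      ← Set.InjOn.ncard_image (f := fun k => C.coord a k) (fun i hi j hj e => by
        simp only [Finset.mem_coe, List.mem_toFinset, List.mem_filter, List.mem_range] at hi hj
        exact C.coord_inj ha hi.1 hj.1 e)]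
    congr 1
    ext v
    simp only [Set.mem_setOf_eq, Set.mem_image, Finset.mem_coe, List.mem_toFinset, List.mem_filter, List.mem_range,
      Bool.and_eq_true, bne_iff_ne, beq_iff_eq]
    constructor
    · rintro ⟨n, hn, rfl⟩
      refine ⟨((φ ⟨n, hn⟩).1 r).1, ⟨((φ ⟨n, hn⟩).1 r).2, fun e => hr ?_, (φ ⟨n, hn⟩).2.2 r⟩, hact ⟨n, hn⟩ r⟩
      have h0 := Ten.XG_zero (φ ⟨n, hn⟩).2
      exact congrArg Fin.val ((φ ⟨n, hn⟩).1.injective ((Fin.ext e : (φ ⟨n, hn⟩).1 r = 0).trans h0.symm))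
    · rintro ⟨k, ⟨hk, hk0, hkc⟩, rfl⟩
      obtain ⟨τ, hτ, hτr⟩ := class_trans (x := r) (y := ⟨k, hk⟩) hr hk0 hkc.symm
      obtain ⟨⟨n, hn⟩, hnτ⟩ := hφ ⟨τ, hτ⟩
      refine ⟨n, hn, ?_⟩
      rw [← hact ⟨n, hn⟩ r, hnτ, hτr]
  have hlen : ((List.range 1024).filter fun k => k != 0 && (inZ k == inZ (orbReps.getD 0 0))).length = 155 ∧
      ((List.range 1024).filter fun k => k != 0 && (inZ k == inZ (orbReps.getD 1 0))).length = 868 ∧
      orbReps.getD 0 0 < 1024 ∧ orbReps.getD 1 0 < 1024 ∧ orbReps.getD 0 0 ≠ 0 ∧ orbReps.getD 1 0 ≠ 0 := by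
    decide +kernel
  obtain ⟨h1, h2, l1, l2, n1, n2⟩ := hlen
  exact ⟨_, C.coord_mem ha l1, _, C.coord_mem ha l2, (horb ⟨_, l1⟩ n1).trans h1, (horb ⟨_, l2⟩ n2).trans h2⟩

/-- Irreducibility. -/
theorem irreducible [IsSimpleGroup G] (hG : ¬ IsMulCommutative G) {W : Subgroup G} (hW : W ≤ C.A10)
    (hinv : normalizer (C.A10 : Set G) ≤ normalizer (W : Set G)) : W = ⊥ ∨ W = C.A10 := by
  classical
  obtain ⟨a, φ, ha, -, hφ, -, hact⟩ := C.exists_automiser hG
  refine or_iff_not_imp_left.mpr fun hne => le_antisymm hW ?_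
  let S : ℕ → Prop := fun k => k < 1024 ∧ C.coord a k ∈ W
  have hx : ∀ i j, S i → S j → S (i ^^^ j) := fun i j hi hj =>
    ⟨Nat.xor_lt_two_pow (n := 10) hi.1 hj.1, by rw [← C.coord_mul hG ha hi.1 hj.1]; exact mul_mem hi.2 hj.2⟩
  have h0 : S 0 := ⟨by norm_num, by rw [C.coord_zero]; exact one_mem _⟩
  have hcls : ∀ x : Fin 1024, x.1 ≠ 0 → S x.1 → ∀ y < 1024, y ≠ 0 → inZ y = inZ x.1 → S y := by
    intro x hx hS y hy hy0 hc
    obtain ⟨τ, hτ, hτx⟩ := class_trans (x := x) (y := ⟨y, hy⟩) hx hy0 hc.symm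
    obtain ⟨⟨n, hn⟩, hnτ⟩ := hφ ⟨τ, hτ⟩
    refine ⟨hy, ?_⟩
    have h := hact ⟨n, hn⟩ x
    rw [hnτ, hτx] at h
    rw [h]
    exact (mem_normalizer_iff.mp (hinv hn) _).mp hS.2
  obtain ⟨x, hxS, hx0⟩ : ∃ x : Fin 1024, S x.1 ∧ x.1 ≠ 0 := by
    by_contra! h
    refine hne ((eq_bot_iff_forall _).mpr fun w hw => ?_)
    obtain ⟨k, hk, rfl⟩ := C.coord_surj hG ha (hW hw)
    obtain rfl : k = 0 := h ⟨k, hk⟩ ⟨hk, hw⟩
    rw [C.coord_zero]
  obtain ⟨hs, hs1, hs2, hl1, hl2, hn1, hn2, hspan, hzb⟩ := Ten.orbit_sum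
  simp only [List.all_eq_true, List.mem_range, List.contains_iff_mem] at hspan hzb
  have hZ : ∀ y < 1024, inZ y = true → S y := by
    have h0Z := outer_count.2
    intro y hy hyz
    have hy0 : y ≠ 0 := fun e => by rw [e, h0Z] at hyz; exact Bool.noConfusion hyz
    rcases Bool.eq_false_or_eq_true (inZ x.1) with hxz | hxz
    · exact hcls x hx0 hxS y hy hy0 (hyz.trans hxz.symm)
    · have h12 : S (orbSum.1 ^^^ orbSum.2) :=
        hx _ _ (hcls x hx0 hxS _ hl1 hn1 (hs1.trans hxz.symm)) (hcls x hx0 hxS _ hl2 hn2 (hs2.trans hxz.symm))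
      have hne0 : orbSum.1 ^^^ orbSum.2 ≠ 0 := fun e => by rw [e, h0Z] at hs; exact Bool.noConfusion hs
      exact hcls ⟨_, h12.1⟩ hne0 h12 y hy hy0 (hyz.trans hs.symm)
  have hb : ∀ b ∈ zBasis, S b := by
    have hbl : ∀ b ∈ zBasis, b < 1024 := by decide +kernel
    exact fun b hb => hZ b (hbl b hb) (hzb b hb)
  have hunit : ∀ j < 10, S (2 ^ j) := fun j hj => by
    obtain ⟨n, -, e⟩ := mem_spanM.mp (hspan j hj)
    exact e ▸ mv_mem h0 hx hb n
  intro w hw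
  obtain ⟨k, hk, rfl⟩ := C.coord_surj hG ha hw
  have hk' := mv_mem h0 hx (B := (List.range 10).map fun j => 2 ^ j) (fun b hb => by
    obtain ⟨j, hj, rfl⟩ := List.mem_map.mp hb
    exact hunit j (List.mem_range.mp hj)) k
  have hid : ∀ k < 1024, mv ((List.range 10).map fun j => 2 ^ j) k = k := fun k hk =>
    lin_ext (f := mv _) (g := id) (· ^^^ ·) 10 (mv_xor _) (fun a b => rfl) (mv_zero _) (by decide +kernel) k hk
  rw [hid k hk] at hk'
  exact hk'.2

theorem normalizer_map (A : Subgroup G) (g : G) (n : G) :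
    n ∈ normalizer ((A.map (MulAut.conj g).toMonoidHom : Subgroup G) : Set G) ↔ g⁻¹ * n * g ∈ normalizer (A : Set G) := by
  rw [← map_equiv_normalizer_eq]
  constructor
  · rintro ⟨m, hm, rfl⟩
    simpa [mul_assoc] using hm
  · intro h
    exact ⟨_, h, by show g * (g⁻¹ * n * g) * g⁻¹ = n; group⟩

end Ctx

end Cfsg.Lib.JankoFour
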