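import Cfsg.Agent.JankoFour.TenGroup.Existence

/-!
Elements of the centraliser of the involution normalising the subgroup of order two to the tenth, and fusion in its
normaliser.
-/

set_option autoImplicit false
set_option maxRecDepth 100000
set_option maxHeartbeats 1000000
set_option linter.style.haveILetI false
set_option linter.unusedSectionVars false

namespace Cfsg.Lib.JankoFour

open Subgroup
open TenData (d1B iIdx tIdx w3 w7)
open Ten (spanM)

universe u

variable {G : Type u} [Group G] [Finite G]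

/-- An element of the normaliser of a finite subgroup. -/
theorem mem_normalizer_of {A : Subgroup G} {g : G} (h : ∀ x ∈ A, g * x * g⁻¹ ∈ A) : g ∈ normalizer (A : Set G) :=
  Subgroup.mem_normalizer_fintype fun x hx => h x hx

theorem mpow_add (M : List ℕ) (hl : ∀ m ∈ M, m < 4096) (a b x : ℕ) (hx : x < 4096) :
    mv (mpow M (a + b)) x = mv (mpow M a) (mv (mpow M b) x) := by
  induction b generalizing x with
  | zero => simp [mpow, mv_idM hx]
  | succ b ih =>
    rw [← Nat.add_assoc, mpow, mpow, mv_mm, mv_mm]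
    exact ih _ (mv_lt (n := 12) hl x)

namespace Ctx

variable {z : G} {P : Subgroup G} (C : Ctx z P)

include C

theorem map_ten {A : Subgroup G} (g : G)
    (hA : Cfsg.IsElementaryAbelian 2 A ∧ Nat.card ↥A = 2 ^ 10 ∧ centralizer (A : Set G) = A) :
    Cfsg.IsElementaryAbelian 2 (A.map (MulAut.conj g).toMonoidHom) ∧
      Nat.card ↥(A.map (MulAut.conj g).toMonoidHom) = 2 ^ 10 ∧
      centralizer ((A.map (MulAut.conj g).toMonoidHom : Subgroup G) : Set G) = A.map (MulAut.conj g).toMonoidHom := by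
  refine ⟨⟨⟨⟨fun a b => Subtype.ext ?_⟩⟩, ?_⟩, (card_map_of_injective (MulAut.conj g).injective).trans hA.2.1, ?_⟩
  · obtain ⟨x, hx, ex⟩ := a.2
    obtain ⟨y, hy, ey⟩ := b.2
    show (a : G) * b = b * a
    rw [← ex, ← ey, ← map_mul, ← map_mul]
    exact congrArg _ (congrArg Subtype.val (hA.1.1.is_comm.comm ⟨x, hx⟩ ⟨y, hy⟩))
  · rintro _ ⟨x, hx, rfl⟩
    rw [← map_pow, hA.1.2 x hx, map_one]
  · ext y
    constructor
    · intro hy
      refine ⟨g⁻¹ * y * g, ?_, by show g * (g⁻¹ * y * g) * g⁻¹ = y; group⟩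
      rw [SetLike.mem_coe, ← hA.2.2]
      refine mem_centralizer_iff.mpr fun x hx => ?_
      have := mem_centralizer_iff.mp hy (g * x * g⁻¹) ⟨x, hx, rfl⟩
      calc x * (g⁻¹ * y * g) = g⁻¹ * ((g * x * g⁻¹) * y) * g := by group
        _ = g⁻¹ * (y * (g * x * g⁻¹)) * g := by rw [this]
        _ = g⁻¹ * y * g * x := by group
    · rintro ⟨x, hx, rfl⟩
      refine mem_centralizer_iff.mpr ?_
      rintro _ ⟨w, hw, rfl⟩
      rw [← map_mul, ← map_mul]
      exact congrArg _ (congrArg Subtype.val (hA.1.1.is_comm.comm ⟨w, hw⟩ ⟨x, hx⟩))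

theorem fuse_A10 [IsSimpleGroup G] (hG : ¬ IsMulCommutative G) {x : G} (hx : x ∈ C.A10) (hc : IsConj z x) :
    ∃ n ∈ normalizer (C.A10 : Set G), n * z * n⁻¹ = x := by
  obtain ⟨g, rfl⟩ := isConj_iff.mp hc
  have hT := C.map_ten g⁻¹ ⟨(C.A10_elem hG).1, C.A10_card hG, (C.A10_elem hG).2⟩
  set A' := C.A10.map (MulAut.conj g⁻¹).toMonoidHom with hA'
  have hzA : z ∈ A' := ⟨g * z * g⁻¹, hx, by show g⁻¹ * (g * z * g⁻¹) * g⁻¹⁻¹ = z; group⟩
  have hAH : A' ≤ centralizer ({z} : Set G) := fun a ha => mem_centralizer_singleton_iff.mpr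
    (congrArg Subtype.val (hT.1.1.is_comm.comm ⟨a, ha⟩ ⟨z, hzA⟩))
  obtain ⟨h, hh, hS⟩ := C.to_S (IsPGroup.of_card hT.2.1) hAH
  have hT' := C.map_ten h hT
  obtain ⟨h', hh', hle⟩ := C.conj_le_A10 hT'.1 (by rintro _ ⟨y, hy, rfl⟩; exact hS y hy) hT'.2.1 hT'.2.2
  have hm : h' * h * g⁻¹ ∈ normalizer (C.A10 : Set G) := mem_normalizer_of fun a ha => by
    have := hle (h * (g⁻¹ * a * g⁻¹⁻¹) * h⁻¹) ⟨_, ⟨a, ha, rfl⟩, rfl⟩
    rwa [show h' * h * g⁻¹ * a * (h' * h * g⁻¹)⁻¹ = h' * (h * (g⁻¹ * a * g⁻¹⁻¹) * h⁻¹) * h'⁻¹ by group]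
  refine ⟨(h' * h * g⁻¹)⁻¹, inv_mem hm, ?_⟩
  have hc : z * (h' * h) = h' * h * z := (C.z_comm (mul_mem hh' hh)).symm.eq ▸ rfl
  calc (h' * h * g⁻¹)⁻¹ * z * (h' * h * g⁻¹)⁻¹⁻¹ = g * ((h' * h)⁻¹ * (z * (h' * h))) * g⁻¹ := by group
    _ = g * z * g⁻¹ := by rw [hc, inv_mul_cancel_left]

theorem mem_N_of_rep {g : G} {M : List ℕ} (hg : g ∈ centralizer ({z} : Set G)) (hr : RepBy C.E C.π g M)
    (hM : ∀ b ∈ d1B, mv M b ∈ spanM d1B) : g ∈ normalizer (C.A10 : Set G) := by
  have hn : g ∈ normalizer ((C.A10 ⊓ C.E : Subgroup G) : Set G) := mem_normalizer_of fun x hx => by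
    have hxD := C.A10_inf_E hx.1 hx.2
    have hgE := C.conj_mem hg hx.2
    exact ⟨C.Dt_le ⟨hgE, by rw [hr x hx.2]; exact spanM_map hM _ hxD.2⟩, hgE⟩
  refine mem_normalizer_of fun a ha => mem_centralizer_iff.mpr fun q hq => ?_
  have hq' := (mem_normalizer_iff.mp (inv_mem hn) q).mp ⟨C.Dt_le hq, hq.1⟩
  have hc := mem_centralizer_iff.mp ha _ (C.A10_inf_E hq'.1 hq'.2)
  calc q * (g * a * g⁻¹) = g * ((g⁻¹ * q * g⁻¹⁻¹) * a) * g⁻¹ := by group
    _ = g * (a * (g⁻¹ * q * g⁻¹⁻¹)) * g⁻¹ := by rw [hc]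
    _ = g * a * g⁻¹ * q := by group

theorem d1B_mem {b : ℕ} (hb : b ∈ d1B) : b ∈ spanM d1B := by
  obtain ⟨k, hk, rfl⟩ := List.getElem_of_mem hb
  exact mem_spanM.mpr ⟨2 ^ k, Nat.pow_lt_pow_right one_lt_two hk, by rw [mv_two_pow, List.getD_eq_getElem _ _ hk]⟩

theorem E_le_N {e : G} (he : e ∈ C.E) : e ∈ normalizer (C.A10 : Set G) :=
  C.mem_N_of_rep (C.le he) (C.rep_E he) fun b hb => by
    rw [mv_idM (d1_spec (C.d1B_mem hb)).1]; exact C.d1B_mem hb

theorem p_mem_N : C.p ∈ normalizer (C.A10 : Set G) :=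
  C.mem_N_of_rep C.pH C.rep_p fun _ hb => (d1_spec (C.d1B_mem hb)).2.2

theorem t_mem_N {g : G} {i : ℕ} (hi : i ∈ tIdx) (hg : g ∈ centralizer ({z} : Set G)) (hr : RepBy C.E C.π g (elt i)) :
    g ∈ normalizer (C.A10 : Set G) := by
  have h := Ten.tIdx_ok.2.2
  simp only [List.all_eq_true, Bool.and_eq_true, List.contains_iff_mem] at h
  exact C.mem_N_of_rep hg hr (h i hi).2

/-- The element of order seven modulo the extraspecial group. -/
theorem exists_seven : ∃ g, g ∈ normalizer (C.A10 : Set G) ⊓ centralizer ({z} : Set G) ∧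
    RepBy C.E C.π g (wM [Data.A, Data.B, Data.C] w7) := by
  obtain ⟨h1, -, h3, -⟩ := Ten.words_ok
  simp only [List.all_eq_true, decide_eq_true_eq, List.contains_iff_mem] at h1 h3
  obtain ⟨g, hg, -, hr⟩ := C.exists_inner w7 0 h1
  have hr' : RepBy C.E C.π g (wM [Data.A, Data.B, Data.C] w7) := by
    rwa [show mm (mpow Data.OM 0) (wM [Data.A, Data.B, Data.C] w7) = wM [Data.A, Data.B, Data.C] w7 by decide +kernel] at hr
  exact ⟨g, ⟨C.mem_N_of_rep hg hr' h3, hg⟩, hr'⟩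

/-- The element of order three modulo the extraspecial group. -/
theorem exists_three : ∃ g, g ∈ normalizer (C.A10 : Set G) ⊓ centralizer ({z} : Set G) ∧ Commute g C.p ∧
    RepBy C.E C.π g (wM [Data.A, Data.B, Data.C] w3) := by
  obtain ⟨-, h2, -, h4, -⟩ := Ten.words_ok
  simp only [List.all_eq_true, decide_eq_true_eq, List.contains_iff_mem] at h2 h4
  obtain ⟨g, hg, hc, hr⟩ := C.exists_inner w3 0 h2
  have hr' : RepBy C.E C.π g (wM [Data.A, Data.B, Data.C] w3) := by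
    rwa [show mm (mpow Data.OM 0) (wM [Data.A, Data.B, Data.C] w3) = wM [Data.A, Data.B, Data.C] w3 by decide +kernel] at hr
  exact ⟨g, ⟨C.mem_N_of_rep hg hr' h4, hg⟩, hc, hr'⟩

theorem E_four {e : G} (he : e ∈ C.E) : e ^ 4 = 1 := by
  rw [show e ^ 4 = (e * e) * (e * e) by simp [pow_succ, mul_assoc]]
  rcases C.sq_cases he with h | h <;> rw [h]
  exacts [one_mul 1, C.X.zz]

theorem rep_pow_E {g : G} {M : List ℕ} {k : ℕ} (hg : g ∈ centralizer ({z} : Set G)) (hr : RepBy C.E C.π g M)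
    (hk : mpow M k = idM) : g ^ k ∈ C.E :=
  C.ker _ (pow_mem hg k) fun q hq => by rw [C.rep_pow hg hr k q hq, hk, mv_idM (C.π_lt q)]

/-- The order of the normaliser inside the centraliser of the involution. -/
theorem card_NH : 63 * 2 ^ 20 ∣ Nat.card ↥(normalizer (C.A10 : Set G) ⊓ centralizer ({z} : Set G)) := by
  classical
  obtain ⟨hnd, hlen, hT⟩ := Ten.tIdx_ok
  simp only [List.all_eq_true, Bool.and_eq_true, decide_eq_true_eq] at hT
  set NH := normalizer (C.A10 : Set G) ⊓ centralizer ({z} : Set G) with hNH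
  have h20 : 2 ^ 20 ∣ Nat.card ↥NH := by
    have hle : C.S ⊓ NH ≤ C.S := inf_le_left
    choose sec hsecH hsec using fun i : Fin tIdx.length => C.exists_elt (hT _ (List.getElem_mem i.2)).1
    let f : Fin tIdx.length × ↥C.E → ↥(C.S ⊓ NH) := fun t => ⟨sec t.1 * t.2,
      mul_mem (C.mem_S.mpr ⟨hsecH _, _, (hT _ (List.getElem_mem t.1.2)).1, hsec _⟩) (C.E_le_S t.2.2),
      mul_mem (C.t_mem_N (List.getElem_mem t.1.2) (hsecH _) (hsec _)) (C.E_le_N t.2.2),
      mul_mem (hsecH _) (C.le t.2.2)⟩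
    have hf : Function.Injective f := by
      rintro ⟨i, e⟩ ⟨j, d⟩ h
      have h' : sec i * (e : G) = sec j * d := congrArg Subtype.val h
      have hre : ∀ (i : Fin tIdx.length) (e : ↥C.E), RepBy C.E C.π (sec i * e) (elt tIdx[i]) := fun i e q hq => by
        rw [C.rep_mul (C.le e.2) (hsec i) (C.rep_E e.2) q hq, mv_mm, mv_idM (C.π_lt q)]
        rfl
      have hij : i = j := Fin.ext (hnd.getElem_inj_iff.mp (elt_inj (hT _ (List.getElem_mem i.2)).1
        (hT _ (List.getElem_mem j.2)).1 (C.rep_unique (hre i e) (h' ▸ hre j d))))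
      subst hij
      exact Prod.ext rfl (Subtype.ext (mul_left_cancel h'))
    have h1 := Nat.card_le_card_of_injective f hf
    rw [Nat.card_prod, Nat.card_eq_fintype_card, Fintype.card_fin, hlen, C.card] at h1
    have h2 : Nat.card ↥(C.S ⊓ NH) ∣ 2 ^ 21 := C.card_S ▸ card_dvd_of_le hle
    obtain ⟨k, -, e⟩ := (Nat.dvd_prime_pow Nat.prime_two).mp h2
    refine dvd_trans ?_ (card_dvd_of_le (inf_le_right : C.S ⊓ NH ≤ NH))
    rw [e] at h1 ⊢
    exact pow_dvd_pow 2 ((Nat.pow_le_pow_iff_right one_lt_two).mp (le_trans (by norm_num) h1))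
  obtain ⟨-, -, -, -, h7, h7n, h3, h3c, hsep⟩ := Ten.words_ok
  have h7d : 7 ∣ Nat.card ↥NH := by
    obtain ⟨g, hg, hr⟩ := C.exists_seven
    have hgH := (Subgroup.mem_inf.mp hg).2
    have h28 : orderOf g ∣ 7 * 4 := orderOf_dvd_of_pow_eq_one (by rw [pow_mul]; exact C.E_four (C.rep_pow_E hgH hr h7))
    have hd := orderOf_dvd_natCard (⟨g, hg⟩ : ↥NH)
    rw [Subgroup.orderOf_mk] at hd
    refine dvd_trans ?_ hd
    by_contra hn
    have h4 : orderOf g ∣ 4 := (((Nat.prime_seven.coprime_iff_not_dvd).mpr hn).symm).dvd_of_dvd_mul_left h28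
    have hgE : g ∈ C.E := by
      have e8 : g ^ (7 * 4 + 1) = g := by rw [pow_succ, pow_mul, C.E_four (C.rep_pow_E hgH hr h7), one_mul]
      have e4 : g ^ 4 = 1 := orderOf_dvd_iff_pow_eq_one.mp h4
      have e7 := C.rep_pow_E hgH hr h7
      have e : g = (g ^ 7) ^ 3 := by
        rw [← pow_mul]
        calc g = g * (g ^ 4) ^ 5 := by rw [e4, one_pow, mul_one]
          _ = g ^ (7 * 3) := by rw [← pow_mul, ← pow_succ']
      rw [e]; exact pow_mem e7 3
    refine h7n (mat_ext (by decide +kernel) rfl fun x hx => ?_)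
    exact C.rep_unique hr (C.rep_E hgE) x hx
  have h9d : 9 ∣ Nat.card ↥NH := by
    obtain ⟨g, hg, hc, hr⟩ := C.exists_three
    have hgH := (Subgroup.mem_inf.mp hg).2
    set h := g ^ 4 with hhd
    have hh3 : h ^ 3 = 1 := by
      rw [hhd, ← pow_mul, show 4 * 3 = 3 * 4 by norm_num, pow_mul]
      exact C.E_four (C.rep_pow_E hgH hr h3)
    have hcp : Commute C.p h := (hc.pow_left 4).symm
    let φ : ↥(zpowers C.p) × ↥(zpowers h) →* G :=
      (zpowers C.p).subtype.noncommCoprod (zpowers h).subtype fun a b => by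
        obtain ⟨i, hi⟩ := mem_zpowers_iff.mp a.2
        obtain ⟨j, hj⟩ := mem_zpowers_iff.mp b.2
        show Commute (a : G) (b : G)
        rw [← hi, ← hj]
        exact hcp.zpow_zpow i j
    have hp3 : C.p ^ 3 = 1 := C.ord ▸ pow_orderOf_eq_one C.p
    have hrh : RepBy C.E C.π h (wM [Data.A, Data.B, Data.C] w3) := fun q hq => by
      rw [C.rep_pow hgH hr 4 q hq, show mpow (wM [Data.A, Data.B, Data.C] w3) 4 = wM [Data.A, Data.B, Data.C] w3 by
        decide +kernel]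
    have hne : h ≠ 1 := fun e => by
      have := mat_ext (M := wM [Data.A, Data.B, Data.C] w3) (by decide +kernel) (N := idM) rfl fun x hx =>
        C.rep_unique hrh (e ▸ C.rep_one) x hx
      revert this
      decide +kernel
    have hord : orderOf h = 3 := orderOf_eq_prime hh3 hne
    have hinj : Function.Injective φ := by
      rw [← MonoidHom.ker_eq_bot_iff, eq_bot_iff_forall]
      rintro ⟨⟨x, hx⟩, ⟨y, hy⟩⟩ hker
      obtain ⟨a, ha, rfl⟩ : ∃ a < 3, C.p ^ a = x := by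
        rcases pow_three_cases C.ord hx with e | e | e
        · exact ⟨0, by norm_num, by rw [e, pow_zero]⟩
        · exact ⟨1, by norm_num, by rw [e, pow_one]⟩
        · exact ⟨2, by norm_num, by rw [e, inv_eq_of_mul_eq_one_right (by rw [← pow_succ']; exact hp3)]⟩
      obtain ⟨b, hb, rfl⟩ : ∃ b < 3, h ^ b = y := by
        rcases pow_three_cases hord hy with e | e | e
        · exact ⟨0, by norm_num, by rw [e, pow_zero]⟩
        · exact ⟨1, by norm_num, by rw [e, pow_one]⟩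
        · exact ⟨2, by norm_num, by rw [e, inv_eq_of_mul_eq_one_right (by rw [← pow_succ']; exact hh3)]⟩
      have hk : C.p ^ a * h ^ b = 1 := hker
      simp only [List.all_eq_true, List.mem_range, Bool.or_eq_true, Bool.and_eq_true, beq_iff_eq, Bool.not_eq_true',
        beq_eq_false_iff_ne] at hsep
      rcases hsep a ha b hb with ⟨rfl, rfl⟩ | hs
      · exact Prod.ext (Subtype.ext (pow_zero _)) (Subtype.ext (pow_zero _))
      · refine absurd (mat_ext ?_ rfl fun x hx => C.rep_unique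
          (C.rep_mul (pow_mem (pow_mem hgH 4) b) (C.rep_pow C.pH C.rep_p a) (C.rep_pow (pow_mem hgH 4) hrh b))
          (hk ▸ C.rep_one) x hx) hs
        interval_cases a <;> interval_cases b <;> decide +kernel
    have hmem : ∀ t, φ t ∈ NH := by
      rintro ⟨⟨x, hx⟩, ⟨y, hy⟩⟩
      exact mul_mem (zpowers_le.mpr (show C.p ∈ NH from ⟨C.p_mem_N, C.pH⟩) hx)
        (zpowers_le.mpr (pow_mem hg 4) hy)
    have h9 := Subgroup.card_dvd_of_injective (φ.codRestrict NH hmem) fun s t e => hinj (congrArg Subtype.val e)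
    rw [Nat.card_prod, Nat.card_zpowers, Nat.card_zpowers, C.ord, hord] at h9
    exact h9
  have h63 : 63 ∣ Nat.card ↥NH := (by norm_num : Nat.Coprime 7 9).mul_dvd_of_dvd_of_dvd h7d h9d
  exact (by norm_num : Nat.Coprime 63 (2 ^ 20)).mul_dvd_of_dvd_of_dvd h63 h20

end Ctx

end Cfsg.Lib.JankoFour
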